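import Mathlib
import Cfsg.Agent.LieClassical.OrthTrans
import Cfsg.Agent.Lib.PGroupFixedVector
import Cfsg.Agent.H353.IFO.Idx
import Cfsg.Agent.FastGrp
import Cfsg.Agent.Prune
set_option linter.all false
prune_inst 0x7fffebfffbffb9dfdfff7fffa79ecffdffbdbffff6dffdcbffe26bffdbff5b9acdefafad8bfabafe5ff76334d4fa7b53ffffffffe36ff87ffffdbff41ffbffcffdf7b50951d68c340fbc2fff03f0778e7f3fffffffffffffffffffffffffffbeffbfffffffff
open scoped Cfsg.Agent.FastGrp

-- part: H739/SK/OmField
section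
/-!
# S3010, orthogonal groups in characteristic two: the field lemmas (helper739)

`F` a finite field of characteristic two.
* `exists_irr` : some `l ≠ 0` with `a² + l a b + b²` anisotropic;
* `eq_refl_of_irr` : such an `l` is fixed by no nontrivial `σ` with `σ² = 1`.
-/

set_option autoImplicit false

namespace Cfsg.Agent.H739.SK.Om

variable {F : Type*} [Field F]

/-- `T² + l T + 1` has no root, homogeneous form. -/
def Irr (l : F) : Prop := ∀ a b : F, a * a + l * (a * b) + b * b = 0 → a = 0 ∧ b = 0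

theorem add_self (h2 : (2 : F) = 0) (a : F) : a + a = 0 := by
  rw [← two_mul, h2, zero_mul]

theorem neg_eq (h2 : (2 : F) = 0) (a : F) : -a = a := by
  rw [neg_eq_iff_add_eq_zero]; exact add_self h2 a

/-- the Artin-Schreier map -/
def as (h2 : (2 : F) = 0) : F →+ F where
  toFun y := y * y + y
  map_zero' := by simp
  map_add' a b := by linear_combination (a * b) * h2

theorem as_apply (h2 : (2 : F) = 0) (y : F) : as h2 y = y * y + y := rfl

theorem mem_ker_as (h2 : (2 : F) = 0) {y : F} : y ∈ (as h2).ker ↔ y = 0 ∨ y = 1 := by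
  rw [AddMonoidHom.mem_ker, as_apply]
  constructor
  · intro h
    have h1 : y * (y + 1) = 0 := by linear_combination h
    rcases mul_eq_zero.1 h1 with h3 | h3
    · exact Or.inl h3
    · right
      linear_combination h3 - h2
  · rintro (rfl | rfl)
    · simp
    · linear_combination h2

theorem card_ker_as (h2 : (2 : F) = 0) : Nat.card (as h2).ker = 2 := by
  have h : ((as h2).ker : Set F) = {0, 1} := by
    ext y
    rw [SetLike.mem_coe, mem_ker_as]
    rfl
  have h1 : Nat.card (as h2).ker = Nat.card ({0, 1} : Set F) := by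
    rw [← h]; rfl
  rw [h1, Nat.card_coe_set_eq, Set.ncard_pair zero_ne_one]

variable [Finite F]

theorem index_range_as (h2 : (2 : F) = 0) : (as h2).range.index = 2 := by
  have h1 : (as h2).ker.index = Nat.card (as h2).range := AddSubgroup.index_ker _
  have h3 := (as h2).ker.card_mul_index
  have h4 := (as h2).range.card_mul_index
  rw [card_ker_as h2, h1] at h3
  have h5 : 0 < Nat.card (as h2).range := Nat.card_pos
  rw [← h3, mul_comm 2] at h4
  exact Nat.eq_of_mul_eq_mul_left h5 h4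

theorem sq_surjective (h2 : (2 : F) = 0) (c : F) : ∃ d : F, d * d = c := by
  have hinj : Function.Injective (fun d : F => d * d) := by
    intro a b h
    have h1 : (a - b) * (a - b) = 0 := by
      have h' : a * a = b * b := h
      linear_combination h' + (b * b - a * b) * h2
    have := mul_self_eq_zero.1 h1
    exact sub_eq_zero.1 this
  exact (Finite.surjective_of_injective hinj) c

theorem sq_inj (h2 : (2 : F) = 0) {a b : F} (h : a * a = b * b) : a = b := by
  have h1 : (a - b) * (a - b) = 0 := by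
    linear_combination h + (b * b - a * b) * h2
  have := mul_self_eq_zero.1 h1
  exact sub_eq_zero.1 this

/-- `l⁻²` is not of the form `y² + y` iff `Irr l`. -/
theorem irr_of_not_mem (h2 : (2 : F) = 0) {l d : F} (hld : l * d = 1) (h : d * d ∉ (as h2).range) : Irr l := by
  have hl : l ≠ 0 := left_ne_zero_of_mul_eq_one hld
  intro a b hab
  by_cases hb : b = 0
  · subst hb
    have h1 : a * a = 0 := by linear_combination hab
    exact ⟨mul_self_eq_zero.1 h1, rfl⟩
  · exfalso
    apply h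
    refine ⟨a * b⁻¹ * d, ?_⟩
    rw [as_apply]
    have hb1 : b * b⁻¹ = 1 := mul_inv_cancel₀ hb
    have h3 : (a * b⁻¹ * d) * (a * b⁻¹ * d) + a * b⁻¹ * d + d * d = 0 := by
      have e1 : (a * b⁻¹ * d) * (a * b⁻¹ * d) + a * b⁻¹ * d + d * d =
          (b⁻¹ * b⁻¹ * d * d) * (a * a + l * (a * b) + b * b) +
            (a * b⁻¹ * d) * (1 - (l * d) * (b * b⁻¹)) + d * d * (1 - (b * b⁻¹) * (b * b⁻¹)) := by ring
      rw [e1, hab, hld, hb1]
      ring
    linear_combination h3 - (d * d) * h2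

theorem not_mem_of_irr (h2 : (2 : F) = 0) {l d : F} (hld : l * d = 1) (h : Irr l) : d * d ∉ (as h2).range := by
  rintro ⟨y, hy⟩
  rw [as_apply] at hy
  -- `T = l y`: `T² + l T + 1 = l² (y² + y + d²)`
  have h1 : (l * y) * (l * y) + l * ((l * y) * 1) + 1 * 1 = 0 := by
    have e : (l * y) * (l * y) + l * ((l * y) * 1) + 1 * 1 = l * l * (y * y + y) + 1 := by ring
    rw [e, hy]
    have e2 : l * l * (d * d) + 1 = (l * d) * (l * d) + 1 := by ring
    rw [e2, hld]
    linear_combination h2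
  exact one_ne_zero (h _ _ h1).2

/-- **Existence.** -/
theorem exists_irr (h2 : (2 : F) = 0) : ∃ l d : F, l * d = 1 ∧ Irr l := by
  have h : (as h2).range ≠ ⊤ := by
    intro ht
    have := index_range_as h2
    rw [ht, AddSubgroup.index_top] at this
    omega
  obtain ⟨c, -, hc⟩ := SetLike.exists_of_lt (lt_of_le_of_ne le_top h)
  obtain ⟨d, rfl⟩ := sq_surjective h2 c
  have hd : d ≠ 0 := by
    rintro rfl
    apply hc
    rw [mul_zero]
    exact (as h2).range.zero_mem
  exact ⟨d⁻¹, d, inv_mul_cancel₀ hd, irr_of_not_mem h2 (inv_mul_cancel₀ hd) hc⟩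

/-- **No field automorphism of order two fixes `l`.** -/
theorem eq_refl_of_irr (h2 : (2 : F) = 0) {l d : F} (hld : l * d = 1) (h : Irr l) {σ : F ≃+* F}
    (hσ : ∀ a, σ (σ a) = a) (hl : σ l = l) : ∀ a, σ a = a := by
  by_contra hcon
  push Not at hcon
  obtain ⟨t, ht⟩ := hcon
  have hd0 : d ≠ 0 := right_ne_zero_of_mul_eq_one hld
  have hl0 : l ≠ 0 := left_ne_zero_of_mul_eq_one hld
  have hd : σ d = d := by
    have h1 : l * σ d = 1 := by
      have := congrArg σ hld
      rwa [map_mul, hl, map_one] at this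
    exact mul_left_cancel₀ hl0 (h1.trans hld.symm)
  set e := t + σ t with he
  have he0 : e ≠ 0 := by
    intro h0
    apply ht
    rw [he] at h0
    linear_combination h0 - t * h2
  have hσe : σ e = e := by rw [he, map_add, hσ, add_comm]
  -- `d² = u + σ u`
  set u := d * d * (t * e⁻¹) with hu
  have hσei : σ e⁻¹ = e⁻¹ := by rw [map_inv₀, hσe]
  have h1 : u + σ u = d * d := by
    rw [hu, map_mul, map_mul, map_mul, hd, hσei]
    have h3 : d * d * (t * e⁻¹) + d * d * (σ t * e⁻¹) = d * d * (e * e⁻¹) := by rw [he]; ring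
    rw [h3, mul_inv_cancel₀ he0, mul_one]
  have hmem : ∀ w, w ∈ (as h2).range ↔ σ w ∈ (as h2).range := by
    have h3 : ∀ w, w ∈ (as h2).range → σ w ∈ (as h2).range := by
      rintro _ ⟨y, rfl⟩
      exact ⟨σ y, by rw [as_apply, as_apply, map_add, map_mul]⟩
    intro w
    refine ⟨h3 w, fun hw => ?_⟩
    have := h3 _ hw
    rwa [hσ] at this
  apply not_mem_of_irr h2 hld h
  rw [← h1]
  exact (AddSubgroup.add_mem_iff_of_index_two (index_range_as h2)).2 (hmem u)

end Cfsg.Agent.H739.SK.Om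
end

-- part: H739/SK/OmAlg
section
/-!
# S3010, orthogonal groups in characteristic two: the odd element inverted by an involution (helper739)

`v` an isometry with `v² = 1`, `N = v + 1`, `Y ⊇ N V`, `j : Y → V` a section of `N` with `Q (j z) = d Q z`, `l d = 1`,
`ζ : V → Y` with `B(j (ζ w), z) = B(w, j z)`. Then `v' w = w + l j (ζ w)` is an isometry with `v'² = 1`, and
`x = v v'` has odd order, is inverted by `v`, and `x + x⁻¹ = l P`, `P w = ζ w + j (N w)` the projection onto
`U = Y + j Y`.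
-/

set_option autoImplicit false
set_option linter.unusedSectionVars false

namespace Cfsg.Agent.H739.SK.Om

open QuadraticMap Cfsg.Agent.LieClassical.OrthCore Cfsg.Agent.LieClassical.OrthTrans

variable {F V : Type*} [Field F] [AddCommGroup V] [Module F V] {Q : QuadraticForm F V}

theorem vadd_self (h2 : (2 : F) = 0) (w : V) : w + w = 0 := by
  rw [← two_smul F w, h2, zero_smul]

theorem vneg (h2 : (2 : F) = 0) (w : V) : -w = w := neg_eq_of_add_eq_zero_left (vadd_self h2 w)

theorem vsub (h2 : (2 : F) = 0) (u w : V) : u - w = u + w := by rw [sub_eq_add_neg, vneg h2]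

theorem polar_self0 (h2 : (2 : F) = 0) (u : V) : polar Q u u = 0 := by rw [polar_self', h2, zero_mul]

theorem eq_of_add_zero (h2 : (2 : F) = 0) {u w : V} (h : u + w = 0) : u = w := by
  rw [← vneg h2 w]; exact eq_neg_of_add_eq_zero_left h

/-- The data. -/
structure XD (Q : QuadraticForm F V) (l d : F) (v : V ≃ₗ[F] V) (Y : Submodule F V) (j : Y →ₗ[F] V)
    (ζ : V →ₗ[F] Y) : Prop where
  two : (2 : F) = 0
  nd : Nondeg Q
  hO : v ∈ O Q
  vv : ∀ w, v (v w) = w
  mem : ∀ w, v w + w ∈ Y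
  sec : ∀ z : Y, v (j z) + j z = z
  sq : ∀ z : Y, Q (j z) = d * Q z
  ld : l * d = 1
  zeta : ∀ (w : V) (z : Y), polar Q (j (ζ w)) z = polar Q w (j z)

namespace XD

variable {l d : F} {v : V ≃ₗ[F] V} {Y : Submodule F V} {j : Y →ₗ[F] V} {ζ : V →ₗ[F] Y}

theorem l_ne (h : XD Q l d v Y j ζ) : l ≠ 0 := left_ne_zero_of_mul_eq_one h.ld

theorem selfadj (h : XD Q l d v Y j ζ) (w y : V) : polar Q (v w + w) y = polar Q w (v y + y) := by
  have h1 : polar Q (v w) y = polar Q w (v y) := by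
    have := polar_map h.hO w (v y)
    rwa [h.vv] at this
  rw [polar_add_left, polar_add_right, h1]

/-- `N` as a map to `Y` -/
def N (h : XD Q l d v Y j ζ) : V →ₗ[F] Y :=
  LinearMap.codRestrict Y (v.toLinearMap + LinearMap.id) (fun w => h.mem w)

theorem N_apply (h : XD Q l d v Y j ζ) (w : V) : (h.N w : V) = v w + w := rfl

theorem N_j (h : XD Q l d v Y j ζ) (z : Y) : h.N (j z) = z := Subtype.ext (h.sec z)

theorem v_Y (h : XD Q l d v Y j ζ) (z : Y) : v z = z := by
  have h1 := h.sec z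
  rw [← h1, map_add, h.vv, add_comm]

theorem N_Y (h : XD Q l d v Y j ζ) (z : Y) : h.N z = 0 := by
  apply Subtype.ext
  rw [h.N_apply, h.v_Y, vadd_self h.two]
  rfl

theorem polar_N (h : XD Q l d v Y j ζ) (w y : V) : polar Q (h.N w : V) y = polar Q w (h.N y : V) :=
  h.selfadj w y

theorem polar_Y (h : XD Q l d v Y j ζ) (z z' : Y) : polar Q (z : V) z' = 0 := by
  have h1 : (z : V) = (h.N (j z) : V) := by rw [h.N_j]
  rw [h1, h.polar_N, h.N_Y]
  exact polar_zero_right _ _

theorem polar_j (h : XD Q l d v Y j ζ) (z z' : Y) : polar Q (j z) (j z') = 0 := by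
  have h1 : polar Q (j z) (j z') = d * polar Q (z : V) z' := by
    have h3 : ((z + z' : Y) : V) = (z : V) + z' := rfl
    simp only [polar]
    rw [← map_add j, h.sq, h.sq, h.sq, h3]
    ring
  rw [h1, h.polar_Y, mul_zero]

theorem Q_N (h : XD Q l d v Y j ζ) (w : V) : Q (h.N w : V) = polar Q w (h.N w : V) := by
  rw [h.N_apply, Q_add, polar_add_right, mem_O.1 h.hO, polar_comm Q (v w) w, polar_self0 h.two]
  linear_combination (Q w) * h.two

theorem polar_jz (h : XD Q l d v Y j ζ) (z : Y) : polar Q (j z) z = Q z := by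
  have h1 := h.Q_N (j z)
  rw [h.N_j] at h1
  exact h1.symm

theorem polar_sym (h : XD Q l d v Y j ζ) (z z' : Y) : polar Q (j z) z' = polar Q (j z') z := by
  have h1 : (z' : V) = (h.N (j z') : V) := by rw [h.N_j]
  have h3 : (z : V) = (h.N (j z) : V) := by rw [h.N_j]
  rw [h1, ← h.polar_N, h.N_j, polar_comm]

theorem inj0 (h : XD Q l d v Y j ζ) {z : Y} (hz : ∀ z' : Y, polar Q (j z) z' = 0) : z = 0 := by
  apply Subtype.ext
  apply h.nd
  intro w
  have h3 : (z : V) = (h.N (j z) : V) := by rw [h.N_j]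
  rw [h3, h.polar_N]
  exact hz _

theorem zeta_Y (h : XD Q l d v Y j ζ) (z : Y) : ζ z = z := by
  rw [← sub_eq_zero]
  apply h.inj0
  intro z'
  rw [map_sub, polar_sub_left, h.zeta, polar_comm, h.polar_sym, sub_self]

theorem zeta_j (h : XD Q l d v Y j ζ) (z : Y) : ζ (j z) = 0 := by
  apply h.inj0
  intro z'
  rw [h.zeta, h.polar_j]

/-- the opposite involution -/
def v' (h : XD Q l d v Y j ζ) : V ≃ₗ[F] V :=
  LinearEquiv.ofLinearMap (LinearMap.id + l • (j ∘ₗ ζ)) (LinearMap.id + l • (j ∘ₗ ζ))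
    (by
      ext w
      have h1 := h.zeta_j (ζ w)
      simp only [LinearMap.comp_apply, LinearMap.add_apply, LinearMap.id_apply, LinearMap.smul_apply, map_add,
        map_smul, h1, map_zero, smul_zero, add_zero]
      rw [add_assoc, vadd_self h.two, add_zero])
    (by
      ext w
      have h1 := h.zeta_j (ζ w)
      simp only [LinearMap.comp_apply, LinearMap.add_apply, LinearMap.id_apply, LinearMap.smul_apply, map_add,
        map_smul, h1, map_zero, smul_zero, add_zero]
      rw [add_assoc, vadd_self h.two, add_zero])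

theorem v'_apply (h : XD Q l d v Y j ζ) (w : V) : h.v' w = w + l • j (ζ w) := rfl

theorem v'_v' (h : XD Q l d v Y j ζ) (w : V) : h.v' (h.v' w) = w := by
  exact h.v'.apply_symm_apply w

theorem v'_mem_O (h : XD Q l d v Y j ζ) : h.v' ∈ O Q := by
  intro w
  rw [h.v'_apply, Q_add, QuadraticMap.map_smul, h.sq, polar_smul_right, ← h.zeta w (ζ w), h.polar_jz]
  have h1 := h.ld
  simp only [smul_eq_mul]
  linear_combination (l * Q (ζ w : V)) * h1 + (l * Q (ζ w : V)) * h.two

/-- the element of odd order -/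
def x (h : XD Q l d v Y j ζ) : V ≃ₗ[F] V := v * h.v'

theorem x_apply (h : XD Q l d v Y j ζ) (w : V) : h.x w = v (h.v' w) := rfl

theorem x_mem_O (h : XD Q l d v Y j ζ) : h.x ∈ O Q := (O Q).mul_mem h.hO h.v'_mem_O

theorem x_inv (h : XD Q l d v Y j ζ) : h.x⁻¹ = h.v' * v := by
  rw [inv_eq_iff_mul_eq_one]
  ext w
  show v (h.v' (h.v' (v w))) = w
  rw [h.v'_v', h.vv]

theorem x_inv_apply (h : XD Q l d v Y j ζ) (w : V) : h.x⁻¹ w = h.v' (v w) := by rw [h.x_inv]; rfl

theorem v_inv (h : XD Q l d v Y j ζ) : v⁻¹ = v := by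
  rw [inv_eq_iff_mul_eq_one]
  ext w
  exact h.vv w

theorem v_x_v (h : XD Q l d v Y j ζ) : v * h.x * v⁻¹ = h.x⁻¹ := by
  rw [h.x_inv, h.v_inv]
  ext w
  show v (v (h.v' (v w))) = h.v' (v w)
  rw [h.vv]

/-- the projection -/
def P (h : XD Q l d v Y j ζ) : V →ₗ[F] V := Y.subtype ∘ₗ ζ + j ∘ₗ h.N

theorem P_apply (h : XD Q l d v Y j ζ) (w : V) : h.P w = (ζ w : V) + j (h.N w) := rfl

theorem v_eq (h : XD Q l d v Y j ζ) (w : V) : v w = w + (h.N w : V) := by
  rw [h.N_apply, add_comm (v w) w, ← add_assoc, vadd_self h.two, zero_add]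

theorem N_P (h : XD Q l d v Y j ζ) (w : V) : h.N (h.P w) = h.N w := by
  rw [h.P_apply, map_add, h.N_Y, h.N_j, zero_add]

theorem zeta_P (h : XD Q l d v Y j ζ) (w : V) : ζ (h.P w) = ζ w := by
  rw [h.P_apply, map_add, h.zeta_Y, h.zeta_j, add_zero]

theorem P_P (h : XD Q l d v Y j ζ) (w : V) : h.P (h.P w) = h.P w := by
  rw [h.P_apply (h.P w), h.N_P, h.zeta_P, ← h.P_apply]

theorem P_Y (h : XD Q l d v Y j ζ) (z : Y) : h.P z = z := by
  rw [h.P_apply, h.zeta_Y, h.N_Y, map_zero, add_zero]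

theorem P_j (h : XD Q l d v Y j ζ) (z : Y) : h.P (j z) = j z := by
  rw [h.P_apply, h.zeta_j, h.N_j]
  simp

theorem x_apply' (h : XD Q l d v Y j ζ) (w : V) : h.x w = v w + l • ((ζ w : V) + j (ζ w)) := by
  rw [h.x_apply, h.v'_apply, map_add, map_smul, h.v_eq (j (ζ w)), h.N_j, add_comm (j (ζ w))]

theorem x_inv_apply' (h : XD Q l d v Y j ζ) (w : V) :
    h.x⁻¹ w = v w + l • (j (ζ w) + j (h.N w)) := by
  rw [h.x_inv_apply, h.v'_apply, h.v_eq w, map_add, h.zeta_Y, map_add]

/-- `x + x⁻¹ = l P` -/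
theorem x_add (h : XD Q l d v Y j ζ) (w : V) : h.x w + h.x⁻¹ w = l • h.P w := by
  rw [h.x_apply', h.x_inv_apply', h.P_apply]
  have e : v w + l • ((ζ w : V) + j (ζ w)) + (v w + l • (j (ζ w) + j (h.N w))) =
      (v w + v w) + l • (((ζ w : V) + j (h.N w)) + (j (ζ w) + j (ζ w))) := by module
  rw [e, vadd_self h.two, vadd_self h.two, zero_add, add_zero]

/-- `P w = 0` iff `w` is fixed by `v` and `v'` -/
theorem P_eq_zero (h : XD Q l d v Y j ζ) {w : V} : h.P w = 0 ↔ h.N w = 0 ∧ ζ w = 0 := by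
  constructor
  · intro hw
    have h1 := h.N_P w
    have h3 := h.zeta_P w
    rw [hw, map_zero] at h1 h3
    exact ⟨h1.symm, h3.symm⟩
  · rintro ⟨h1, h3⟩
    rw [h.P_apply, h1, h3, map_zero]
    simp

theorem v_of_P (h : XD Q l d v Y j ζ) {w : V} (hw : h.P w = 0) : v w = w := by
  rw [h.v_eq, (h.P_eq_zero.1 hw).1]
  simp

theorem v'_of_P (h : XD Q l d v Y j ζ) {w : V} (hw : h.P w = 0) : h.v' w = w := by
  rw [h.v'_apply, (h.P_eq_zero.1 hw).2]
  simp only [_root_.map_zero, _root_.smul_zero, _root_.add_zero]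

theorem x_of_P (h : XD Q l d v Y j ζ) {w : V} (hw : h.P w = 0) : h.x w = w := by
  rw [h.x_apply, h.v'_of_P hw, h.v_of_P hw]

theorem P_add_self (h : XD Q l d v Y j ζ) (w : V) : h.P (w + h.P w) = 0 := by
  rw [map_add, h.P_P, vadd_self h.two]

theorem x_eq (h : XD Q l d v Y j ζ) (w : V) : h.x w = w + h.P w + h.x (h.P w) := by
  have h1 := h.x_of_P (h.P_add_self w)
  rw [map_add] at h1
  rw [← h1, add_assoc, vadd_self h.two, add_zero]

theorem x_x (h : XD Q l d v Y j ζ) (w : V) : h.x (h.x w) = l • h.x (h.P w) + w := by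
  have h1 := congrArg h.x (h.x_add w)
  rw [map_add, map_smul] at h1
  have h3 : h.x (h.x⁻¹ w) = w := h.x.apply_symm_apply w
  rw [h3] at h1
  rw [← h1, add_assoc, vadd_self h.two, add_zero]

theorem x_pow (h : XD Q l d v Y j ζ) (m : ℕ) :
    ∃ a b : F, ∀ w, (h.x ^ m) w = w + a • h.x (h.P w) + b • h.P w := by
  induction m with
  | zero => exact ⟨0, 0, fun w => by simp⟩
  | succ m ih =>
    obtain ⟨a, b, hab⟩ := ih
    refine ⟨1 + l * a + b, 1 + a, fun w => ?_⟩
    rw [pow_succ']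
    show h.x ((h.x ^ m) w) = _
    rw [hab, map_add, map_add, map_smul, map_smul, h.x_x, h.P_P, h.x_eq w]
    module

theorem x_P_Y (h : XD Q l d v Y j ζ) (z : Y) : h.x z = (1 + l) • (z : V) + l • j z := by
  rw [h.x_apply', h.v_Y, h.zeta_Y]
  module

theorem eq_one_of_sq (h : XD Q l d v Y j ζ) {z : Y} (hz : z ≠ 0) {m : ℕ}
    (hm : ∀ w, (h.x ^ m) ((h.x ^ m) w) = w) : h.x ^ m = 1 := by
  obtain ⟨a, b, hab⟩ := h.x_pow m
  -- apply to `z`
  have h1 := hm z
  have h3 : (h.x ^ m) (z : V) = z + a • h.x z + b • (z : V) := by rw [hab, h.P_Y]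
  have h4 : (h.x ^ m) (h.x (z : V)) = h.x z + a • (l • h.x z + (z : V)) + b • h.x z := by
    have h5 : (h.x ^ m) (h.x (z : V)) = h.x ((h.x ^ m) (z : V)) := by
      show (h.x ^ m * h.x) (z : V) = (h.x * h.x ^ m) (z : V)
      rw [← pow_succ, ← pow_succ']
    rw [h5, h3, map_add, map_add, map_smul, map_smul, h.x_x, h.P_Y]
  rw [h3, map_add, map_add, map_smul, map_smul, h3, h4, h.x_P_Y] at h1
  -- coefficients
  have h6 : (a * a * l * (1 + l) + a * a + b * b) • (z : V) + (a * a * l * l) • j z = 0 := by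
    have e : (a * a * l * (1 + l) + a * a + b * b) • (z : V) + (a * a * l * l) • j z =
        ((z : V) + a • ((1 + l) • (z : V) + l • j z) + b • (z : V) +
        a • ((1 + l) • (z : V) + l • j z + a • (l • ((1 + l) • (z : V) + l • j z) + (z : V)) +
          b • ((1 + l) • (z : V) + l • j z)) +
        b • ((z : V) + a • ((1 + l) • (z : V) + l • j z) + b • (z : V))) -
        (z : V) - (2 : F) • ((a * (1 + l) + b + a * b * (1 + l)) • (z : V) + (a * l + a * b * l) • j z) := by
      module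
    rw [e, h1, h.two]
    simp only [_root_.sub_self, _root_.smul_add, _root_.zero_smul, _root_.add_zero]
  have h7 : a * a * l * l = 0 := by
    have h8 := congrArg (fun t => (h.N t : V)) h6
    simp only [map_add, map_smul, h.N_Y, h.N_j, map_zero, smul_zero, zero_add] at h8
    rw [Submodule.coe_smul] at h8
    rcases smul_eq_zero.1 (h8.trans rfl) with h9 | h9
    · exact h9
    · exact absurd (Subtype.ext h9) hz
  have hl := h.l_ne
  have ha : a = 0 := by
    have h8 : a * a = 0 := by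
      have h9 : (a * a) * (l * l) = 0 := by rw [← h7]; ring
      rcases mul_eq_zero.1 h9 with h10 | h10
      · exact h10
      · exact absurd (mul_self_eq_zero.1 h10) hl
    exact mul_self_eq_zero.1 h8
  subst ha
  have hb : b = 0 := by
    have h8 : (b * b) • (z : V) = 0 := by
      have e : (0 * 0 * l * (1 + l) + 0 * 0 + b * b) • (z : V) + (0 * 0 * l * l) • j z = (b * b) • (z : V) := by
        module
      rw [← e]; exact h6
    rcases smul_eq_zero.1 h8 with h9 | h9
    · exact mul_self_eq_zero.1 h9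
    · exact absurd (Subtype.ext h9) hz
  subst hb
  ext w
  rw [hab]
  simp

theorem odd_x (h : XD Q l d v Y j ζ) [Finite (V ≃ₗ[F] V)] {z : Y} (hz : z ≠ 0) : Odd (orderOf h.x) := by
  by_contra hodd
  rw [Nat.not_odd_iff_even] at hodd
  obtain ⟨m, hm⟩ := hodd
  have hpos : 0 < orderOf h.x := orderOf_pos _
  have h1 : h.x ^ m = 1 := by
    apply h.eq_one_of_sq hz
    intro w
    have h3 : h.x ^ m * h.x ^ m = 1 := by rw [← pow_add, ← hm, pow_orderOf_eq_one]
    exact LinearEquiv.congr_fun h3 w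
  have h3 := orderOf_dvd_of_pow_eq_one h1
  have h4 := Nat.le_of_dvd (by omega) h3
  omega

end XD

end Cfsg.Agent.H739.SK.Om
end

-- part: H739/SK/OmFix
section
/-!
# S3010, orthogonal groups in characteristic two: 2-groups normalised by the centraliser of `⟨v, x⟩` (helper739)

`A` a 2-group of isometries commuting with `v` and `x`, normalised by the elements of `E Q` commuting with `v` and `x`:
* `fix_Y` : `A` fixes `Y` (hence `P V`) pointwise;
* `refl_a` : every element of `A` is `1` or a reflection (`v` acts trivially on `ker P`);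
* `refl_c` : the same when `A` and the normalising elements have to fix a nonsingular vector `a₀` of `ker P`.
-/

set_option autoImplicit false
set_option linter.unusedSectionVars false

namespace Cfsg.Agent.H739.SK.Om

open QuadraticMap Cfsg.Agent.LieClassical.OrthCore Cfsg.Agent.LieClassical.OrthTrans

variable {F V : Type*} [Field F] [AddCommGroup V] [Module F V] {Q : QuadraticForm F V}

theorem isPGroup_fix {A : Subgroup (V ≃ₗ[F] V)} [Finite A] (h2 : (2 : F) = 0) (hA : IsPGroup 2 A)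
    (W : Submodule F V) (hW : ∀ a ∈ A, ∀ w ∈ W, a w ∈ W) (hW0 : W ≠ ⊥) :
    ∃ w ∈ W, w ≠ 0 ∧ ∀ a ∈ A, a w = w := by
  have : CharP F 2 := CharTwo.of_one_ne_zero_of_two_eq_zero one_ne_zero h2
  let ρ : Representation F A V :=
    { toFun := fun a => (a : V ≃ₗ[F] V).toLinearMap
      map_one' := rfl
      map_mul' := fun _ _ => rfl }
  obtain ⟨w, hw, hw0, hf⟩ := Lib.PGroupFixedVector.exists_mem_ne_zero_fixed_rep hA ρ W
    (fun g w hw => hW g.1 g.2 w hw) hW0
  exact ⟨w, hw, hw0, fun a ha => hf ⟨a, ha⟩⟩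

/-- fixed vector modulo an invariant subspace -/
theorem isPGroup_fix_mod {A : Subgroup (V ≃ₗ[F] V)} [Finite A] (h2 : (2 : F) = 0) (hA : IsPGroup 2 A)
    (W T : Submodule F V) (hW : ∀ a ∈ A, ∀ w ∈ W, a w ∈ W) (hT : ∀ a ∈ A, ∀ w ∈ T, a w ∈ T) (hWT : ¬ W ≤ T) :
    ∃ w ∈ W, w ∉ T ∧ ∀ a ∈ A, a w - w ∈ T := by
  have : CharP F 2 := CharTwo.of_one_ne_zero_of_two_eq_zero one_ne_zero h2
  let ρ : Representation F A (V ⧸ T) :=
    { toFun := fun a => T.mapQ T (a : V ≃ₗ[F] V).toLinearMap (fun w hw => hT a.1 a.2 w hw)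
      map_one' := by
        ext w
        rfl
      map_mul' := fun _ _ => by
        ext w
        rfl }
  obtain ⟨w, hw, hw0, hf⟩ := Lib.PGroupFixedVector.exists_mem_ne_zero_fixed_rep hA ρ (W.map T.mkQ)
    (by
      rintro g _ ⟨w, hw, rfl⟩
      exact ⟨g.1 w, hW g.1 g.2 w hw, rfl⟩)
    (by
      intro h0
      apply hWT
      rw [← LinearMap.le_ker_iff_map, Submodule.ker_mkQ] at h0
      exact h0)
  obtain ⟨u, hu, rfl⟩ := hw
  refine ⟨u, hu, ?_, fun a ha => ?_⟩
  · intro hu'
    exact hw0 ((Submodule.Quotient.mk_eq_zero T).2 hu')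
  · have h1 := hf ⟨a, ha⟩
    have h3 : T.mkQ (a u) = T.mkQ u := h1
    exact (Submodule.Quotient.eq T).1 h3

/-- every functional is represented by the polar form -/
theorem exists_rep [FiniteDimensional F V] (hQ : Nondeg Q) (φ : Module.Dual F V) :
    ∃ y, ∀ w, polar Q y w = φ w := by
  have hinj : Function.Injective (polarBilin Q : V →ₗ[F] V →ₗ[F] F) := by
    rw [← LinearMap.ker_eq_bot, LinearMap.ker_eq_bot']
    intro y hy
    apply hQ
    intro w
    exact LinearMap.congr_fun hy w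
  have hsurj : Function.Surjective (polarBilin Q : V →ₗ[F] Module.Dual F V) :=
    (LinearMap.injective_iff_surjective_of_finrank_eq_finrank (by exact (Subspace.dual_finrank_eq).symm)).1 hinj
  obtain ⟨y, hy⟩ := hsurj φ
  exact ⟨y, fun w => LinearMap.congr_fun hy w⟩

/-- separation of a vector from a subspace -/
theorem exists_sep_sub [FiniteDimensional F V] (hQ : Nondeg Q) (D : Submodule F V) {h : V} (hh : h ∉ D) :
    ∃ y, (∀ w ∈ D, polar Q y w = 0) ∧ polar Q y h ≠ 0 := by
  obtain ⟨φ, hφ, hD⟩ := Submodule.exists_le_ker_of_notMem hh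
  obtain ⟨y, hy⟩ := exists_rep hQ φ
  refine ⟨y, fun w hw => ?_, ?_⟩
  · rw [hy]
    exact hD hw
  · rw [hy]
    exact hφ

/-- An isometry moving every vector by a multiple of `b` is `1` or the reflection in `b`. -/
theorem refl_of (h2 : (2 : F) = 0) (hQ : Nondeg Q) {g : V ≃ₗ[F] V} (hg : g ∈ O Q) {b : V}
    (h : ∀ w, g w - w ∈ Submodule.span F {b}) : g = 1 ∨ ∃ hb : Q b ≠ 0, g = refl Q b hb := by
  by_cases hb0 : b = 0
  · left
    ext w
    have h1 := h w
    rw [hb0, Submodule.span_zero_singleton, Submodule.mem_bot, sub_eq_zero] at h1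
    exact h1
  choose c hc using fun w => Submodule.mem_span_singleton.1 (h w)
  have hgw : ∀ w, g w = w + c w • b := fun w => by rw [hc]; abel
  have hcl : ∀ w w', c (w + w') = c w + c w' := by
    intro w w'
    have h1 : (c (w + w') - (c w + c w')) • b = 0 := by
      have h3 := hgw (w + w')
      rw [map_add, hgw, hgw] at h3
      rw [sub_smul, add_smul]
      have : c (w + w') • b = (w + c w • b + (w' + c w' • b)) - (w + w') := by rw [h3]; abel
      rw [this]; abel
    rcases smul_eq_zero.1 h1 with h3 | h3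
    · exact sub_eq_zero.1 h3
    · exact absurd h3 hb0
  have hkey : ∀ w, c w = 0 ∨ c w * Q b = polar Q b w := by
    intro w
    by_cases hw : c w = 0
    · exact Or.inl hw
    right
    have h1 := hg w
    rw [hgw, Q_add, QuadraticMap.map_smul, polar_smul_right, polar_comm Q w b] at h1
    simp only [smul_eq_mul] at h1
    have h3 : c w * (c w * Q b + polar Q b w) = 0 := by linear_combination h1
    rcases mul_eq_zero.1 h3 with h4 | h4
    · exact absurd h4 hw
    · linear_combination h4 - (polar Q b w) * h2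
  by_cases hall : ∀ w, c w = 0
  · left
    ext w
    rw [hgw, hall]
    simp
  push Not at hall
  obtain ⟨w₀, hw₀⟩ := hall
  have hall2 : ∀ w, c w * Q b = polar Q b w := by
    intro w
    rcases hkey w with h1 | h1
    · -- `c w = 0`: use `w + w₀`
      have h3 : c (w + w₀) ≠ 0 := by rw [hcl, h1, zero_add]; exact hw₀
      have h4 := (hkey (w + w₀)).resolve_left h3
      have h5 := (hkey w₀).resolve_left hw₀
      rw [hcl, polar_add_right, add_mul, h5] at h4
      exact add_right_cancel h4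
    · exact h1
  have hQb : Q b ≠ 0 := by
    intro h0
    exact hb0 (hQ b fun w => by rw [← hall2, h0, mul_zero])
  right
  refine ⟨hQb, ?_⟩
  ext w
  rw [hgw, refl_apply, sub_eq_add_neg, ← neg_smul]
  congr 2
  have h1 := hall2 w
  rw [neg_eq h2, ← h1]
  field_simp

theorem smul_refl {b : V} (hb : Q b ≠ 0) {c : F} (hcb : Q (c • b) ≠ 0) : refl Q (c • b) hcb = refl Q b hb := by
  have hc : c ≠ 0 := by
    rintro rfl
    apply hcb
    rw [zero_smul, QuadraticMap.map_zero]
  ext w
  rw [refl_apply, refl_apply, QuadraticMap.map_smul, polar_smul_left, smul_smul]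
  congr 2
  simp only [smul_eq_mul]
  field_simp

/-- a multiple of `b` has a given nonzero norm -/
theorem exists_scale [Finite F] (h2 : (2 : F) = 0) {b : V} (hb : Q b ≠ 0) {t : F} (ht : t ≠ 0) :
    ∃ c : F, c ≠ 0 ∧ Q (c • b) = t := by
  obtain ⟨c, hc⟩ := sq_surjective h2 (t * (Q b)⁻¹)
  refine ⟨c, ?_, ?_⟩
  · rintro rfl
    rw [mul_zero] at hc
    have := mul_ne_zero ht (inv_ne_zero hb)
    exact this hc.symm
  · rw [QuadraticMap.map_smul, hc, smul_eq_mul, mul_assoc, inv_mul_cancel₀ hb, mul_one]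

namespace XD

variable {l d : F} {v : V ≃ₗ[F] V} {Y : Submodule F V} {j : Y →ₗ[F] V} {ζ : V →ₗ[F] Y}

/-! ### elements commuting with `v` and `x` -/

/-- `g` commutes with `v` and `x` -/
def Cm (h : XD Q l d v Y j ζ) (g : V ≃ₗ[F] V) : Prop := g * v = v * g ∧ g * h.x = h.x * g

theorem v'_eq (h : XD Q l d v Y j ζ) : h.v' = v * h.x := by
  ext w
  show h.v' w = v (v (h.v' w))
  rw [h.vv]

theorem Cm.v' {h : XD Q l d v Y j ζ} {g : V ≃ₗ[F] V} (hg : h.Cm g) : g * h.v' = h.v' * g := by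
  rw [h.v'_eq, ← mul_assoc, hg.1, mul_assoc, hg.2, mul_assoc]

theorem cm_of (h : XD Q l d v Y j ζ) {g : V ≃ₗ[F] V} (h1 : g * v = v * g) (h3 : g * h.v' = h.v' * g) : h.Cm g :=
  ⟨h1, by rw [x, ← mul_assoc, h1, mul_assoc, h3, mul_assoc]⟩

theorem Cm.apply_v {h : XD Q l d v Y j ζ} {g : V ≃ₗ[F] V} (hg : h.Cm g) (w : V) : g (v w) = v (g w) :=
  LinearEquiv.congr_fun hg.1 w

theorem Cm.apply_v' {h : XD Q l d v Y j ζ} {g : V ≃ₗ[F] V} (hg : h.Cm g) (w : V) : g (h.v' w) = h.v' (g w) :=
  LinearEquiv.congr_fun hg.v' w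

theorem Cm.apply_N {h : XD Q l d v Y j ζ} {g : V ≃ₗ[F] V} (hg : h.Cm g) (w : V) :
    g (h.N w : V) = (h.N (g w) : V) := by
  rw [h.N_apply, h.N_apply, map_add, hg.apply_v]

theorem Cm.mem_Y {h : XD Q l d v Y j ζ} {g : V ≃ₗ[F] V} (hg : h.Cm g) {w : V} (hw : w ∈ Y) : g w ∈ Y := by
  have h1 : w = (h.N (j ⟨w, hw⟩) : V) := by rw [h.N_j]
  rw [h1, hg.apply_N]
  exact (h.N _).2

theorem Cm.apply_jz {h : XD Q l d v Y j ζ} {g : V ≃ₗ[F] V} (hg : h.Cm g) (w : V) :
    g (j (ζ w)) = j (ζ (g w)) := by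
  have h1 := hg.apply_v' w
  rw [h.v'_apply, h.v'_apply, map_add, map_smul] at h1
  have h3 := add_left_cancel h1
  have h4 : l • (g (j (ζ w)) - j (ζ (g w))) = 0 := by rw [smul_sub, h3, sub_self]
  rcases smul_eq_zero.1 h4 with h5 | h5
  · exact absurd h5 h.l_ne
  · exact sub_eq_zero.1 h5

theorem Cm.apply_zeta {h : XD Q l d v Y j ζ} {g : V ≃ₗ[F] V} (hg : h.Cm g) (w : V) :
    g (ζ w : V) = (ζ (g w) : V) := by
  have h1 : (ζ w : V) = (h.N (j (ζ w)) : V) := by rw [h.N_j]
  rw [h1, hg.apply_N, hg.apply_jz, h.N_j]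

theorem Cm.apply_j {h : XD Q l d v Y j ζ} {g : V ≃ₗ[F] V} (hg : h.Cm g) (z : Y) :
    g (j z) = j ⟨g z, hg.mem_Y z.2⟩ := by
  have h1 := hg.apply_jz (z : V)
  rw [h.zeta_Y] at h1
  rw [h1]
  congr 1
  exact h.zeta_Y ⟨g z, hg.mem_Y z.2⟩

theorem Cm.apply_P {h : XD Q l d v Y j ζ} {g : V ≃ₗ[F] V} (hg : h.Cm g) (w : V) : g (h.P w) = h.P (g w) := by
  rw [h.P_apply, h.P_apply, map_add, hg.apply_zeta, hg.apply_j]
  congr 2
  exact Subtype.ext (hg.apply_N w)

theorem Cm.P_zero {h : XD Q l d v Y j ζ} {g : V ≃ₗ[F] V} (hg : h.Cm g) {w : V} (hw : h.P w = 0) :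
    h.P (g w) = 0 := by rw [← hg.apply_P, hw, map_zero]

/-- a reflection in a vector fixed by `v`, `v'` commutes with them -/
theorem cm_refl (h : XD Q l d v Y j ζ) {b : V} (hb : Q b ≠ 0) (hP : h.P b = 0) : h.Cm (refl Q b hb) := by
  have key : ∀ g : V ≃ₗ[F] V, g ∈ O Q → g b = b → refl Q b hb * g = g * refl Q b hb := by
    intro g hg hgb
    ext w
    show refl Q b hb (g w) = g (refl Q b hb w)
    have h1 : polar Q b (g w) = polar Q b w := by
      have := polar_map hg b w
      rwa [hgb] at this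
    rw [refl_apply, refl_apply, map_sub, map_smul, hgb, h1]
  exact h.cm_of (key _ h.hO (h.v_of_P hP)) (key _ h.v'_mem_O (h.v'_of_P hP))

/-- the long root elements -/
theorem tau_aux (h : XD Q l d v Y j ζ) {z : Y} (hz : Q (z : V) = 0) : polar Q (z : V) (j z) = 0 := by
  rw [polar_comm, h.polar_jz, hz]

/-- `w ↦ w + B(z,w) j z + B(j z, w) z` -/
def tau (h : XD Q l d v Y j ζ) {z : Y} (hz : Q (z : V) = 0) : V ≃ₗ[F] V := siegel Q (z : V) (j z) hz (h.tau_aux hz)

theorem tau_apply (h : XD Q l d v Y j ζ) {z : Y} (hz : Q (z : V) = 0) (w : V) :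
    h.tau hz w = w + polar Q (z : V) w • j z + polar Q (j z) w • (z : V) := by
  rw [tau, siegel_apply, h.sq, hz, mul_zero, zero_mul, zero_smul, sub_zero, vsub h.two]

theorem tau_mem_E (h : XD Q l d v Y j ζ) {z : Y} (hz : Q (z : V) = 0) : h.tau hz ∈ E Q := siegel_mem_E _ _

theorem v'_Y (h : XD Q l d v Y j ζ) (z : Y) : h.v' z = z + l • j z := by rw [h.v'_apply, h.zeta_Y]

theorem v'_j (h : XD Q l d v Y j ζ) (z : Y) : h.v' (j z) = j z := by
  rw [h.v'_apply, h.zeta_j, map_zero, smul_zero, add_zero]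

theorem v_j (h : XD Q l d v Y j ζ) (z : Y) : v (j z) = j z + z := by rw [h.v_eq, h.N_j]

theorem cm_tau (h : XD Q l d v Y j ζ) {z : Y} (hz : Q (z : V) = 0) : h.Cm (h.tau hz) := by
  refine h.cm_of ?_ ?_
  · ext w
    show h.tau hz (v w) = v (h.tau hz w)
    have h1 : polar Q (z : V) (v w) = polar Q (z : V) w := by
      have := polar_map h.hO (z : V) w
      rwa [h.v_Y] at this
    have h3 : polar Q (j z) (v w) = polar Q (j z) w + polar Q (z : V) w := by
      have h4 := polar_map h.hO (j z + (z : V)) w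
      rw [map_add, h.v_j, h.v_Y, add_assoc, vadd_self h.two, add_zero, polar_add_left] at h4
      exact h4
    rw [h.tau_apply, h.tau_apply, h1, h3, map_add, map_add, map_smul, map_smul, h.v_j, h.v_Y]
    module
  · ext w
    show h.tau hz (h.v' w) = h.v' (h.tau hz w)
    have h1 : polar Q (j z) (h.v' w) = polar Q (j z) w := by
      have := polar_map h.v'_mem_O (j z) w
      rwa [h.v'_j] at this
    have h3 : polar Q (z : V) (h.v' w) = polar Q (z : V) w + l * polar Q (j z) w := by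
      have h4 := polar_map h.v'_mem_O ((z : V) + l • j z) w
      rw [map_add, map_smul, h.v'_j, h.v'_Y, add_assoc, vadd_self h.two, add_zero, polar_add_left,
        polar_smul_left, smul_eq_mul] at h4
      exact h4
    rw [h.tau_apply, h.tau_apply, h1, h3, map_add, map_add, map_smul, map_smul, h.v'_j, h.v'_Y]
    module

theorem tau_Y (h : XD Q l d v Y j ζ) {z : Y} (hz : Q (z : V) = 0) (y : Y) :
    h.tau hz y = y + polar Q (j z) y • (z : V) := by
  rw [h.tau_apply, h.polar_Y, zero_smul, add_zero]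

/-! ### `A` fixes `Y` -/

/-- condition (★) on `Y` -/
def Star (Q : QuadraticForm F V) (Y : Submodule F V) (j : Y →ₗ[F] V) : Prop :=
  ∀ u : Y, (∀ z : Y, Q (z : V) = 0 → polar Q (j z) u = 0) → Q (u : V) = 0 → u = 0

theorem fix_Y [FiniteDimensional F V] (h : XD Q l d v Y j ζ) (A : Subgroup (V ≃ₗ[F] V)) [Finite A]
    (hA : IsPGroup 2 A) (hAO : A ≤ O Q) (hAc : ∀ a ∈ A, h.Cm a)
    (hn : ∀ (z : Y) (hz : Q (z : V) = 0), ∀ a ∈ A, (h.tau hz)⁻¹ * a * h.tau hz ∈ A) (hs : Star Q Y j) :
    ∀ a ∈ A, ∀ z : Y, a (z : V) = z := by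
  -- the fixed space and its orthogonal
  let D : Submodule F V :=
    { carrier := {u | u ∈ Y ∧ ∀ a ∈ A, a u = u}
      add_mem' := fun {u w} hu hw => ⟨Y.add_mem hu.1 hw.1, fun a ha => by rw [map_add, hu.2 a ha, hw.2 a ha]⟩
      zero_mem' := ⟨Y.zero_mem, fun a _ => map_zero _⟩
      smul_mem' := fun c u hu => ⟨Y.smul_mem c hu.1, fun a ha => by rw [map_smul, hu.2 a ha]⟩ }
  let Pp : Submodule F V :=
    { carrier := {u | u ∈ Y ∧ ∀ f : Y, (f : V) ∈ D → polar Q (j f) u = 0}
      add_mem' := fun {u w} hu hw => ⟨Y.add_mem hu.1 hw.1, fun f hf => by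
        rw [polar_add_right, hu.2 f hf, hw.2 f hf, add_zero]⟩
      zero_mem' := ⟨Y.zero_mem, fun f _ => polar_zero_right _ _⟩
      smul_mem' := fun c u hu => ⟨Y.smul_mem c hu.1, fun f hf => by
        rw [polar_smul_right, hu.2 f hf, smul_zero]⟩ }
  by_contra hcon
  push Not at hcon
  obtain ⟨a₀, ha₀, z₀, hz₀⟩ := hcon
  have hz₀D : (z₀ : V) ∉ D := fun hD => hz₀ (hD.2 a₀ ha₀)
  -- `Pp ≠ 0`
  have hPp : Pp ≠ ⊥ := by
    obtain ⟨y, hy, hy0⟩ := exists_sep_sub h.nd D hz₀D
    rw [Submodule.ne_bot_iff]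
    have hrep : ∀ z : Y, polar Q (j z) (h.N y : V) = polar Q y z := by
      intro z
      rw [← h.polar_N, h.N_j, polar_comm]
    refine ⟨(h.N y : V), ⟨(h.N y).2, fun f hf => ?_⟩, fun h0 => ?_⟩
    · rw [hrep, hy f hf]
    · apply hy0
      rw [← hrep, h0]
      exact polar_zero_right _ _
  have hinv : ∀ a ∈ A, ∀ w ∈ Pp, a w ∈ Pp := by
    intro a ha w hw
    refine ⟨(hAc a ha).mem_Y hw.1, fun f hf => ?_⟩
    have h1 : a (j f) = j f := by
      rw [(hAc a ha).apply_j]
      congr 1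
      exact Subtype.ext (hf.2 a ha)
    have h3 := polar_map (hAO ha) (j f) w
    rw [h1] at h3
    rw [h3]
    exact hw.2 f hf
  obtain ⟨u, hu, hu0, hfix⟩ := isPGroup_fix h.two hA Pp hinv hPp
  have huD : u ∈ D := ⟨hu.1, hfix⟩
  have hQu : Q u = 0 := by
    have h1 := hu.2 ⟨u, hu.1⟩ huD
    rw [h.polar_jz] at h1
    exact h1
  have h1 := hs ⟨u, hu.1⟩ ?_ hQu
  · exact hu0 (congrArg Subtype.val h1)
  intro z hz
  by_contra hne
  -- `τ u` is fixed, so `z` is fixed
  have hzD : (z : V) ∈ D := by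
    have h3 : h.tau hz u = u + polar Q (j z) u • (z : V) := h.tau_Y hz ⟨u, hu.1⟩
    have h4 : ∀ a ∈ A, a (h.tau hz u) = h.tau hz u := by
      intro a ha
      have h5 := hfix _ (hn z hz a ha)
      have h6 : (h.tau hz)⁻¹ (a (h.tau hz u)) = u := h5
      have h7 := congrArg (h.tau hz) h6
      have h8 : h.tau hz ((h.tau hz)⁻¹ (a (h.tau hz u))) = a (h.tau hz u) := (h.tau hz).apply_symm_apply _
      rw [h8] at h7
      exact h7
    refine ⟨z.2, fun a ha => ?_⟩
    have h5 := h4 a ha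
    rw [h3, map_add, map_smul, hfix a ha] at h5
    have h6 := add_left_cancel h5
    have h7 : polar Q (j z) u • (a (z : V) - z) = 0 := by rw [smul_sub, h6, sub_self]
    rcases smul_eq_zero.1 h7 with h8 | h8
    · exact absurd h8 hne
    · exact sub_eq_zero.1 h8
  exact hne (hu.2 z hzD)

/-- then `A` fixes `P V` -/
theorem fix_P (h : XD Q l d v Y j ζ) {A : Subgroup (V ≃ₗ[F] V)} (hAc : ∀ a ∈ A, h.Cm a)
    (hY : ∀ a ∈ A, ∀ z : Y, a (z : V) = z) : ∀ a ∈ A, ∀ w, a (h.P w) = h.P w := by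
  intro a ha w
  have h1 : ∀ z : Y, a (j z) = j z := by
    intro z
    rw [(hAc a ha).apply_j]
    congr 1
    exact Subtype.ext (hY a ha z)
  rw [h.P_apply, map_add, hY a ha, h1]

/-! ### the complement `ker P` -/

/-- `ker P` is orthogonal to `P V` -/
theorem polar_P (h : XD Q l d v Y j ζ) {u : V} (hu : h.P u = 0) (w : V) : polar Q u (h.P w) = 0 := by
  obtain ⟨h1, h3⟩ := h.P_eq_zero.1 hu
  rw [h.P_apply, polar_add_right, ← h.zeta, h3]
  have h4 : (ζ w : V) = (h.N (j (ζ w)) : V) := by rw [h.N_j]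
  rw [h4, ← h.polar_N, h1, map_zero]
  simp

theorem polar_ker (h : XD Q l d v Y j ζ) {u : V} (hu : h.P u = 0) (w : V) :
    polar Q u (w + h.P w) = polar Q u w := by rw [polar_add_right, h.polar_P hu, add_zero]

/-- one conjugation step: if `r u = u + c b`, `c ≠ 0`, `r` normalises `A` and `A` fixes `u`, then `A` fixes `b` -/
theorem fix_step {A : Subgroup (V ≃ₗ[F] V)} {r : V ≃ₗ[F] V} (hr : ∀ a ∈ A, r⁻¹ * a * r ∈ A) {u b : V} {c : F}
    (hc : c ≠ 0) (hru : r u = u + c • b) (hu : ∀ a ∈ A, a u = u) : ∀ a ∈ A, a b = b := by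
  intro a ha
  have h5 := hu _ (hr a ha)
  have h6 : r⁻¹ (a (r u)) = u := h5
  have h7 := congrArg r h6
  have h8 : r (r⁻¹ (a (r u))) = a (r u) := r.apply_symm_apply _
  rw [h8, hru, map_add, map_smul, hu a ha] at h7
  have h9 := add_left_cancel h7
  have h10 : c • (a b - b) = 0 := by rw [smul_sub, h9, sub_self]
  rcases smul_eq_zero.1 h10 with h11 | h11
  · exact absurd h11 hc
  · exact sub_eq_zero.1 h11

end XD

end Cfsg.Agent.H739.SK.Om
end

-- part: H739/SK/OmRefl
section
/-!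
# S3010, orthogonal groups in characteristic two: `A` on the complement `ker P` (helper739)

* `refl_a` : no vector to preserve; every `a ∈ A` is `1` or a reflection;
* `refl_c` : `A` fixes the nonsingular vector `a₀ ∈ ker P`; every `a ∈ A` is `1` or the reflection in `a₀`.
-/

set_option autoImplicit false
set_option linter.unusedSectionVars false

namespace Cfsg.Agent.H739.SK.Om

open QuadraticMap Cfsg.Agent.LieClassical.OrthCore Cfsg.Agent.LieClassical.OrthTrans

variable {F V : Type*} [Field F] [AddCommGroup V] [Module F V] {Q : QuadraticForm F V}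

namespace XD

variable {l d : F} {v : V ≃ₗ[F] V} {Y : Submodule F V} {j : Y →ₗ[F] V} {ζ : V →ₗ[F] Y}

/-- the vectors of `ker P` fixed by `A` -/
def Fx (h : XD Q l d v Y j ζ) (A : Subgroup (V ≃ₗ[F] V)) : Submodule F V where
  carrier := {u | h.P u = 0 ∧ ∀ a ∈ A, a u = u}
  add_mem' := fun {u w} hu hw => ⟨by rw [map_add, hu.1, hw.1, add_zero],
    fun a ha => by rw [map_add, hu.2 a ha, hw.2 a ha]⟩
  zero_mem' := ⟨map_zero _, fun a _ => map_zero _⟩
  smul_mem' := fun c u hu => ⟨by rw [map_smul, hu.1, smul_zero], fun a ha => by rw [map_smul, hu.2 a ha]⟩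

/-- the orthogonal of `Fx` in `ker P` -/
def Pr (h : XD Q l d v Y j ζ) (A : Subgroup (V ≃ₗ[F] V)) : Submodule F V where
  carrier := {u | h.P u = 0 ∧ ∀ f ∈ h.Fx A, polar Q f u = 0}
  add_mem' := fun {u w} hu hw => ⟨by rw [map_add, hu.1, hw.1, add_zero], fun f hf => by
    rw [polar_add_right, hu.2 f hf, hw.2 f hf, add_zero]⟩
  zero_mem' := ⟨map_zero _, fun f _ => polar_zero_right _ _⟩
  smul_mem' := fun c u hu => ⟨by rw [map_smul, hu.1, smul_zero], fun f hf => by
    rw [polar_smul_right, hu.2 f hf, smul_zero]⟩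

theorem Pr_inv (h : XD Q l d v Y j ζ) {A : Subgroup (V ≃ₗ[F] V)} (hAO : A ≤ O Q) (hAc : ∀ a ∈ A, h.Cm a) :
    ∀ a ∈ A, ∀ w ∈ h.Pr A, a w ∈ h.Pr A := by
  intro a ha w hw
  refine ⟨(hAc a ha).P_zero hw.1, fun f hf => ?_⟩
  have h3 := polar_map (hAO ha) f w
  rw [hf.2 a ha] at h3
  rw [h3]
  exact hw.2 f hf

/-- `w + P w ∈ ker P` with the same products against `ker P` -/
theorem proj_ker (h : XD Q l d v Y j ζ) (w : V) : h.P (w + h.P w) = 0 := h.P_add_self w

/-- a vector of `ker P` not fixed by `A` is separated from the fixed ones inside `Pr` -/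
theorem exists_Pr [FiniteDimensional F V] (h : XD Q l d v Y j ζ) {A : Subgroup (V ≃ₗ[F] V)} {w : V}
    (hw : h.P w = 0) (hwF : w ∉ h.Fx A) : ∃ u ∈ h.Pr A, polar Q u w ≠ 0 := by
  obtain ⟨y, hy, hy0⟩ := exists_sep_sub h.nd (h.Fx A) hwF
  refine ⟨y + h.P y, ⟨h.proj_ker y, fun f hf => ?_⟩, ?_⟩
  · rw [h.polar_ker hf.1, polar_comm]
    exact hy f hf
  · rw [polar_comm, h.polar_ker hw, polar_comm]
    exact hy0

/-- if `A` fixes `P V` and `ker P` then `A = 1` -/
theorem eq_one_of_ker (h : XD Q l d v Y j ζ) {A : Subgroup (V ≃ₗ[F] V)}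
    (hP : ∀ a ∈ A, ∀ w, a (h.P w) = h.P w) (hK : ∀ w, h.P w = 0 → w ∈ h.Fx A) : ∀ a ∈ A, a = 1 := by
  intro a ha
  ext w
  show a w = w
  have h1 := (hK _ (h.proj_ker w)).2 a ha
  rw [map_add, hP a ha] at h1
  exact add_right_cancel h1

/-- **Case without a preserved vector.** -/
theorem refl_a [FiniteDimensional F V] [Finite F] (h : XD Q l d v Y j ζ) (A : Subgroup (V ≃ₗ[F] V)) [Finite A]
    (hA : IsPGroup 2 A) (hAO : A ≤ O Q) (hAc : ∀ a ∈ A, h.Cm a) (hP : ∀ a ∈ A, ∀ w, a (h.P w) = h.P w)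
    (hn : ∀ (b c : V) (hb : Q b ≠ 0) (hc : Q c ≠ 0), h.P b = 0 → h.P c = 0 → Q c = Q b →
      ∀ a ∈ A, (refl Q b hb * refl Q c hc)⁻¹ * a * (refl Q b hb * refl Q c hc) ∈ A) :
    ∀ a ∈ A, a = 1 ∨ ((∃ (b : V) (hb : Q b ≠ 0), a = refl Q b hb) ∧
      ∃ u b₀ : V, ∀ w, h.P w = 0 → w = polar Q w b₀ • u + polar Q w u • b₀) := by
  by_cases hall : ∀ w, h.P w = 0 → w ∈ h.Fx A
  · intro a ha
    exact Or.inl (h.eq_one_of_ker hP hall a ha)
  push Not at hall
  obtain ⟨w₀, hw₀, hw₀F⟩ := hall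
  obtain ⟨u₀, hu₀, hu₀0⟩ := h.exists_Pr hw₀ hw₀F
  have hPr : h.Pr A ≠ ⊥ := by
    rw [Submodule.ne_bot_iff]
    refine ⟨u₀, hu₀, ?_⟩
    rintro rfl
    exact hu₀0 (polar_zero_left _ _)
  obtain ⟨u, hu, hu0, hfix⟩ := isPGroup_fix h.two hA (h.Pr A) (h.Pr_inv hAO hAc) hPr
  -- `b₀ ∈ ker P` with `B(u, b₀) = 1`
  obtain ⟨y, hy⟩ := h.nd.exists_polar_eq hu0 1
  set b₀ := y + h.P y with hb₀
  have hb₀P : h.P b₀ = 0 := h.proj_ker y
  have hub₀ : polar Q u b₀ = 1 := by rw [hb₀, h.polar_ker hu.1, hy]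
  -- the main step
  have hmain : ∀ c : V, h.P c = 0 → Q c ≠ 0 → polar Q u c = 0 → polar Q b₀ c = 0 → False := by
    intro c hcP hc huc hbc
    obtain ⟨b, hbP, hb, hub⟩ : ∃ b, h.P b = 0 ∧ Q b ≠ 0 ∧ polar Q u b = 1 := by
      by_cases hQ0 : Q b₀ = 0
      · refine ⟨b₀ + c, by rw [map_add, hb₀P, hcP, add_zero], ?_, by rw [polar_add_right, hub₀, huc, add_zero]⟩
        rw [Q_add, hQ0, hbc, zero_add, add_zero]
        exact hc
      · exact ⟨b₀, hb₀P, hQ0, hub₀⟩
    obtain ⟨t, ht0, ht⟩ := exists_scale h.two hb hc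
    have htb : Q (t • b) ≠ 0 := by rw [ht]; exact hc
    have hPtb : h.P (t • b) = 0 := by rw [map_smul, hbP, smul_zero]
    have hru : (refl Q (t • b) htb * refl Q c hc) u = u + (-((Q (t • b))⁻¹ * polar Q (t • b) u)) • (t • b) := by
      show refl Q (t • b) htb (refl Q c hc u) = _
      rw [refl_apply hc, polar_comm Q c u, huc, mul_zero, zero_smul, sub_zero, refl_apply, neg_smul,
        sub_eq_add_neg]
    have hc0 : -((Q (t • b))⁻¹ * polar Q (t • b) u) ≠ 0 := by
      rw [polar_comm, polar_smul_right, hub, smul_eq_mul, mul_one]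
      exact neg_ne_zero.2 (mul_ne_zero (inv_ne_zero htb) ht0)
    have hbfix := fix_step (hn (t • b) c htb hc hPtb hcP ht.symm) hc0 hru hfix
    have h1 := hu.2 (t • b) ⟨hPtb, hbfix⟩
    rw [polar_comm, polar_smul_right, hub, smul_eq_mul, mul_one] at h1
    exact ht0 h1
  -- hence `ker P = ⟨u, b₀⟩`
  set pr : V → V := fun w => w + polar Q w b₀ • u + polar Q w u • b₀ with hpr
  have hprP : ∀ w, h.P w = 0 → h.P (pr w) = 0 := by
    intro w hw
    rw [hpr]
    simp only [map_add, map_smul, hw, hu.1, hb₀P, smul_zero, add_zero]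
  have hpru : ∀ w, polar Q u (pr w) = 0 := by
    intro w
    rw [hpr]
    simp only [polar_add_right, polar_smul_right, smul_eq_mul]
    rw [polar_self0 h.two, hub₀, polar_comm Q w u, mul_zero, mul_one, add_zero]
    exact add_self h.two _
  have hprb : ∀ w, polar Q b₀ (pr w) = 0 := by
    intro w
    rw [hpr]
    simp only [polar_add_right, polar_smul_right, smul_eq_mul]
    rw [polar_self0 h.two, polar_comm Q b₀ u, hub₀, polar_comm Q w b₀, mul_zero, mul_one, add_zero]
    exact add_self h.two _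
  have hplane : ∀ w, h.P w = 0 → pr w = 0 := by
    intro w hw
    by_contra hne
    obtain ⟨y', hy'⟩ := h.nd.exists_polar_eq hne 1
    set y1 := pr (y' + h.P y') with hy1
    have hy1P : h.P y1 = 0 := hprP _ (h.proj_ker y')
    have h1 : polar Q (pr w) y1 = 1 := by
      rw [hy1, hpr]
      simp only [polar_add_right, polar_smul_right, smul_eq_mul]
      have e1 : polar Q (pr w) (h.P y') = 0 := h.polar_P (hprP w hw) y'
      have e2 : polar Q (pr w) u = 0 := by rw [polar_comm]; exact hpru w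
      have e3 : polar Q (pr w) b₀ = 0 := by rw [polar_comm]; exact hprb w
      rw [hpr] at e1 e2 e3 hy'
      simp only at e1 e2 e3 hy'
      rw [e1, e2, e3, hy']
      ring
    rcases exists_nonsing h1 with h3 | h3 | h3
    · exact hmain _ (hprP w hw) h3 (hpru w) (hprb w)
    · exact hmain _ hy1P h3 (hpru _) (hprb _)
    · refine hmain _ ?_ h3 ?_ ?_
      · rw [map_add, hprP w hw, hy1P, add_zero]
      · rw [polar_add_right, hpru, hpru, add_zero]
      · rw [polar_add_right, hprb, hprb, add_zero]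
  intro a ha
  have hdec : ∀ w, h.P w = 0 → w = polar Q w b₀ • u + polar Q w u • b₀ := by
    intro w hw
    have h1 := hplane w hw
    rw [hpr] at h1
    simp only [add_assoc] at h1
    exact eq_of_add_zero h.two h1
  have hab₀ : a b₀ - b₀ ∈ Submodule.span F {u} := by
    have h1 := hdec (a b₀) ((hAc a ha).P_zero hb₀P)
    have h3 : polar Q (a b₀) u = 1 := by
      have := polar_map (hAO ha) b₀ u
      rw [hfix a ha, polar_comm Q b₀ u, hub₀] at this
      exact this
    rw [h3, one_smul] at h1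
    rw [h1, add_sub_cancel_right]
    exact Submodule.smul_mem _ _ (Submodule.mem_span_singleton_self u)
  have hw : ∀ w, a w - w ∈ Submodule.span F {u} := by
    intro w
    have h1 : a w - w = a (w + h.P w) - (w + h.P w) := by rw [map_add, hP a ha]; abel
    have h3 := hdec _ (h.proj_ker w)
    rw [h1, h3, map_add, map_smul, map_smul, hfix a ha]
    have e : ∀ (s t : F), s • u + t • a b₀ - (s • u + t • b₀) = t • (a b₀ - b₀) := by
      intro s t
      rw [smul_sub]; abel
    rw [e]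
    exact Submodule.smul_mem _ _ hab₀
  rcases refl_of h.two h.nd (hAO ha) hw with h1 | ⟨hb, h1⟩
  · exact Or.inl h1
  · exact Or.inr ⟨⟨u, hb, h1⟩, u, b₀, hdec⟩

/-- **Case with a preserved vector `a₀`.** -/
theorem refl_c [FiniteDimensional F V] [Finite F] (h : XD Q l d v Y j ζ) (A : Subgroup (V ≃ₗ[F] V)) [Finite A]
    (hA : IsPGroup 2 A) (hAO : A ≤ O Q) (hAc : ∀ a ∈ A, h.Cm a) (hP : ∀ a ∈ A, ∀ w, a (h.P w) = h.P w)
    {a₀ : V} (ha₀P : h.P a₀ = 0) (ha₀ : Q a₀ ≠ 0) (hfa : ∀ a ∈ A, a a₀ = a₀)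
    (hn : ∀ (b : V) (hb : Q b ≠ 0), h.P b = 0 → Q a₀ = Q b → polar Q a₀ b = 0 →
      ∀ a ∈ A, (refl Q b hb * refl Q a₀ ha₀)⁻¹ * a * (refl Q b hb * refl Q a₀ ha₀) ∈ A) :
    ∀ a ∈ A, a = 1 ∨ a = refl Q a₀ ha₀ := by
  have ha₀F : a₀ ∈ h.Fx A := ⟨ha₀P, hfa⟩
  have ha₀0 : a₀ ≠ 0 := by
    rintro rfl
    exact ha₀ (QuadraticMap.map_zero Q)
  -- `A` fixes `ker P ∩ a₀^⊥`
  have hH : ∀ w, h.P w = 0 → polar Q a₀ w = 0 → w ∈ h.Fx A := by
    by_contra hcon
    push Not at hcon
    obtain ⟨w₀, hw₀, hw₀a, hw₀F⟩ := hcon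
    obtain ⟨u₀, hu₀, hu₀0⟩ := h.exists_Pr hw₀ hw₀F
    have hnot : ¬ h.Pr A ≤ Submodule.span F {a₀} := by
      intro hle
      obtain ⟨c, hc⟩ := Submodule.mem_span_singleton.1 (hle hu₀)
      apply hu₀0
      rw [← hc, polar_smul_left, hw₀a, smul_zero]
    obtain ⟨u, hu, huT, hfixT⟩ := isPGroup_fix_mod h.two hA (h.Pr A) (Submodule.span F {a₀})
      (h.Pr_inv hAO hAc) (by
        intro a ha w hw
        obtain ⟨c, rfl⟩ := Submodule.mem_span_singleton.1 hw
        rw [map_smul, hfa a ha]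
        exact hw) hnot
    have hua₀ : polar Q a₀ u = 0 := hu.2 a₀ ha₀F
    have hfix : ∀ a ∈ A, a u = u := by
      intro a ha
      obtain ⟨c, hc⟩ := Submodule.mem_span_singleton.1 (hfixT a ha)
      have h1 : a u = u + c • a₀ := by rw [hc]; abel
      have h3 := (hAO ha) u
      rw [h1, Q_add, QuadraticMap.map_smul, polar_smul_right, polar_comm Q u a₀, hua₀, smul_zero, add_zero,
        smul_eq_mul] at h3
      have h4 : c * c * Q a₀ = 0 := by linear_combination h3
      have h5 : c = 0 := by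
        rcases mul_eq_zero.1 h4 with h6 | h6
        · exact mul_self_eq_zero.1 h6
        · exact absurd h6 ha₀
      rw [h1, h5, zero_smul, add_zero]
    have hsep : ∀ c : F, u ≠ c • a₀ := by
      rintro c rfl
      exact huT (Submodule.smul_mem _ _ (Submodule.mem_span_singleton_self a₀))
    obtain ⟨y, hy1, hy2⟩ := exists_sep h.nd hsep
    set b₀ := y + h.P y with hb₀
    have hb₀P : h.P b₀ = 0 := h.proj_ker y
    have hub₀ : polar Q u b₀ = 1 := by rw [hb₀, h.polar_ker hu.1, hy2]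
    have hab₀ : polar Q a₀ b₀ = 0 := by rw [hb₀, h.polar_ker ha₀P, hy1]
    obtain ⟨b, hbP, hb, hub, hab⟩ : ∃ b, h.P b = 0 ∧ Q b ≠ 0 ∧ polar Q u b = 1 ∧ polar Q a₀ b = 0 := by
      by_cases hQ0 : Q b₀ = 0
      · refine ⟨b₀ + a₀, by rw [map_add, hb₀P, ha₀P, add_zero], ?_, ?_, ?_⟩
        · rw [Q_add, hQ0, polar_comm Q b₀ a₀, hab₀, zero_add, add_zero]
          exact ha₀
        · rw [polar_add_right, hub₀, polar_comm Q u a₀, hua₀, add_zero]
        · rw [polar_add_right, hab₀, polar_self0 h.two, add_zero]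
      · exact ⟨b₀, hb₀P, hQ0, hub₀, hab₀⟩
    obtain ⟨t, ht0, ht⟩ := exists_scale h.two hb ha₀
    have htb : Q (t • b) ≠ 0 := by rw [ht]; exact ha₀
    have hPtb : h.P (t • b) = 0 := by rw [map_smul, hbP, smul_zero]
    have hru : (refl Q (t • b) htb * refl Q a₀ ha₀) u =
        u + (-((Q (t • b))⁻¹ * polar Q (t • b) u)) • (t • b) := by
      show refl Q (t • b) htb (refl Q a₀ ha₀ u) = _
      rw [refl_apply ha₀, hua₀, mul_zero, zero_smul, sub_zero, refl_apply, neg_smul, sub_eq_add_neg]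
    have hc0 : -((Q (t • b))⁻¹ * polar Q (t • b) u) ≠ 0 := by
      rw [polar_comm, polar_smul_right, hub, smul_eq_mul, mul_one]
      exact neg_ne_zero.2 (mul_ne_zero (inv_ne_zero htb) ht0)
    have hbfix := fix_step (hn (t • b) htb hPtb ht.symm (by rw [polar_smul_right, hab, smul_zero])) hc0 hru hfix
    have h1 := hu.2 (t • b) ⟨hPtb, hbfix⟩
    rw [polar_comm, polar_smul_right, hub, smul_eq_mul, mul_one] at h1
    exact ht0 h1
  -- a vector of `ker P` with product one with `a₀`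
  obtain ⟨y, hy⟩ := h.nd.exists_polar_eq ha₀0 1
  set y1 := y + h.P y with hy1
  have hy1P : h.P y1 = 0 := h.proj_ker y
  have hay1 : polar Q a₀ y1 = 1 := by rw [hy1, h.polar_ker ha₀P, hy]
  intro a ha
  have hy1a : a y1 - y1 ∈ Submodule.span F {a₀} := by
    by_contra hnot
    have hsep : ∀ c : F, a y1 - y1 ≠ c • a₀ := by
      intro c hc
      apply hnot
      rw [hc]
      exact Submodule.smul_mem _ _ (Submodule.mem_span_singleton_self a₀)
    obtain ⟨w, hw1, hw2⟩ := exists_sep h.nd hsep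
    have hPd : h.P (a y1 - y1) = 0 := by rw [map_sub, (hAc a ha).P_zero hy1P, hy1P, sub_zero]
    set w' := w + h.P w with hw'
    have hw'P : h.P w' = 0 := h.proj_ker w
    have h1 : polar Q (a y1 - y1) w' = 1 := by rw [hw', h.polar_ker hPd, hw2]
    have h3 : polar Q a₀ w' = 0 := by rw [hw', h.polar_ker ha₀P, hw1]
    have h4 := (hH w' hw'P h3).2 a ha
    have h5 := polar_map (hAO ha) y1 w'
    rw [h4] at h5
    rw [polar_sub_left, h5, sub_self] at h1
    exact zero_ne_one h1
  have hw : ∀ w, a w - w ∈ Submodule.span F {a₀} := by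
    intro w
    have h1 : a w - w = a (w + h.P w) - (w + h.P w) := by rw [map_add, hP a ha]; abel
    set w' := w + h.P w with hw'
    have hw'P : h.P w' = 0 := h.proj_ker w
    have h3 : w' + polar Q a₀ w' • y1 ∈ h.Fx A := by
      apply hH
      · rw [map_add, map_smul, hw'P, hy1P, smul_zero, add_zero]
      · rw [polar_add_right, polar_smul_right, hay1, smul_eq_mul, mul_one]
        exact add_self h.two _
    have h4 := h3.2 a ha
    rw [map_add, map_smul] at h4
    have h5 : a w' - w' = -(polar Q a₀ w' • (a y1 - y1)) := by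
      rw [smul_sub]
      have : a w' = w' + polar Q a₀ w' • y1 - polar Q a₀ w' • a y1 := by rw [← h4]; abel
      rw [this]; abel
    rw [h1, h5]
    exact Submodule.neg_mem _ (Submodule.smul_mem _ _ hy1a)
  rcases refl_of h.two h.nd (hAO ha) hw with h1 | ⟨hb, h1⟩
  · exact Or.inl h1
  · exact Or.inr h1

end XD

end Cfsg.Agent.H739.SK.Om
end

-- part: H739/SK/OmNF
section
/-!
# S3010, orthogonal groups in characteristic two: the normal form (helper739)

`exists_XD` : from a section `j₀` of `N = v + 1` (and a nonsingular vector `b₀` fixed by `v` and orthogonal to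
`j₀ Y`, unless `Q = 0` on `Y`) a section `j` with `Q (j z) = d Q z`, and the map `ζ`.
-/

set_option autoImplicit false
set_option linter.unusedSectionVars false

namespace Cfsg.Agent.H739.SK.Om

open QuadraticMap Cfsg.Agent.LieClassical.OrthCore Cfsg.Agent.LieClassical.OrthTrans

variable {F V : Type*} [Field F] [AddCommGroup V] [Module F V] {Q : QuadraticForm F V}

/-- the form `(z, z') ↦ B(j z, z')` on `Y` -/
def frm (Q : QuadraticForm F V) {Y : Submodule F V} (j : Y →ₗ[F] V) : Y →ₗ[F] Module.Dual F Y :=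
  (polarBilin Q).compl₁₂ j Y.subtype

theorem frm_inj (h2 : (2 : F) = 0) (hnd : Nondeg Q) {v : V ≃ₗ[F] V} (hO : v ∈ O Q) (vv : ∀ w, v (v w) = w)
    {Y : Submodule F V} (mem : ∀ w, v w + w ∈ Y) {j : Y →ₗ[F] V} (hj : ∀ z : Y, v (j z) + j z = z) :
    Function.Injective (frm Q j) := by
  rw [← LinearMap.ker_eq_bot, LinearMap.ker_eq_bot']
  intro z hz
  apply Subtype.ext
  apply hnd
  intro w
  rw [← hj z]
  have h1 : polar Q (v (j z)) w = polar Q (j z) (v w) := by
    have := polar_map hO (j z) (v w)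
    rwa [vv] at this
  rw [polar_add_left, h1, ← polar_add_right]
  exact LinearMap.congr_fun hz ⟨v w + w, mem w⟩

/-- every functional on `Y` is `B(j u, ·)` -/
noncomputable def frmE [FiniteDimensional F V] {Y : Submodule F V} {j : Y →ₗ[F] V}
    (h : Function.Injective (frm Q j)) : Y ≃ₗ[F] Module.Dual F Y :=
  LinearMap.linearEquivOfInjective (frm Q j) h (Subspace.dual_finrank_eq).symm

theorem frmE_apply [FiniteDimensional F V] {Y : Submodule F V} {j : Y →ₗ[F] V}
    (h : Function.Injective (frm Q j)) (z z' : Y) : frmE h z z' = polar Q (j z) (z' : V) := rfl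

theorem frmE_symm [FiniteDimensional F V] {Y : Submodule F V} {j : Y →ₗ[F] V}
    (h : Function.Injective (frm Q j)) (φ : Module.Dual F Y) (z : Y) :
    polar Q (j ((frmE h).symm φ)) (z : V) = φ z := by
  rw [← frmE_apply h, LinearEquiv.apply_symm_apply]

/-- square roots of a `2`-semilinear map -/
theorem exists_root [Finite F] (h2 : (2 : F) = 0) {Y : Type*} [AddCommGroup Y] [Module F Y] (q : Y → F)
    (hadd : ∀ z z', q (z + z') = q z + q z') (hsmul : ∀ (c : F) (z : Y), q (c • z) = c * c * q z) :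
    ∃ r : Y →ₗ[F] F, ∀ z, r z * r z = q z := by
  choose s hs using fun z => sq_surjective h2 (q z)
  refine ⟨{ toFun := s, map_add' := fun z z' => ?_, map_smul' := fun c z => ?_ }, hs⟩
  · apply sq_inj h2
    rw [hs, hadd, ← hs z, ← hs z']
    linear_combination (-(s z * s z')) * h2
  · apply sq_inj h2
    rw [hs, hsmul, ← hs z]
    simp only [RingHom.id_apply, smul_eq_mul]
    ring

theorem exists_XD [FiniteDimensional F V] [Finite F] (h2 : (2 : F) = 0) (hnd : Nondeg Q) {l d : F} (hld : l * d = 1)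
    {v : V ≃ₗ[F] V} (hO : v ∈ O Q) (vv : ∀ w, v (v w) = w) {Y : Submodule F V} (mem : ∀ w, v w + w ∈ Y)
    (j₀ : Y →ₗ[F] V) (hj₀ : ∀ z : Y, v (j₀ z) + j₀ z = z) {b₀ : V} (hb₀ : v b₀ = b₀)
    (hbj : ∀ z : Y, polar Q (j₀ z) b₀ = 0) (hcase : (∀ z : Y, Q (z : V) = 0) ∨ Q b₀ ≠ 0) :
    ∃ (j : Y →ₗ[F] V) (ζ : V →ₗ[F] Y), XD Q l d v Y j ζ ∧
      ∀ z, ∃ (y : Y) (t : F), j z = j₀ z + (y : V) + t • b₀ := by
  -- vectors of `Y`
  have hvY : ∀ z : Y, v (z : V) = z := by
    intro z
    rw [← hj₀ z, map_add, vv, add_comm]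
  have hself : ∀ w y : V, polar Q (v w + w) y = polar Q w (v y + y) := by
    intro w y
    have h1 : polar Q (v w) y = polar Q w (v y) := by
      have := polar_map hO w (v y)
      rwa [vv] at this
    rw [polar_add_left, polar_add_right, h1]
  have hYb : ∀ (z : Y) {b : V}, v b = b → polar Q (z : V) b = 0 := by
    intro z b hb
    rw [← hj₀ z, hself, hb, vadd_self h2, polar_zero_right]
  have hYY : ∀ z z' : Y, polar Q (z : V) z' = 0 := fun z z' => hYb z (hvY z')
  have hinj₀ := frm_inj h2 hnd hO vv mem hj₀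
  -- the bilinear form
  set q : QuadraticForm F Y := Q.comp j₀ + d • Q.comp Y.subtype with hq
  obtain ⟨g, hg⟩ := LinearMap.BilinMap.toQuadraticMap_surjective q
  have hgz : ∀ z : Y, g z z = Q (j₀ z) + d * Q (z : V) := by
    intro z
    have h1 := congrArg (fun f : QuadraticForm F Y => f z) hg
    simp only [LinearMap.BilinMap.toQuadraticMap_apply] at h1
    rw [h1, hq]
    rfl
  let φ : Y →ₗ[F] Y := (frmE hinj₀).symm.toLinearMap ∘ₗ g.flip
  have hφ : ∀ z z' : Y, polar Q (j₀ (φ z)) (z' : V) = g z' z := by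
    intro z z'
    exact frmE_symm hinj₀ (g.flip z) z'
  have hsym : ∀ z z' : Y, polar Q (j₀ z) (z' : V) = polar Q (j₀ z') (z : V) := by
    intro z z'
    calc polar Q (j₀ z) (z' : V) = polar Q (j₀ z) (v (j₀ z') + j₀ z') := by rw [hj₀]
      _ = polar Q (v (j₀ z) + j₀ z) (j₀ z') := (hself _ _).symm
      _ = polar Q (j₀ z') (z : V) := by rw [hj₀, polar_comm]
  have hφ' : ∀ z : Y, polar Q (j₀ z) (φ z : V) = g z z := by
    intro z
    rw [hsym, hφ]
  -- the root
  obtain ⟨r, hr⟩ : ∃ r : Y →ₗ[F] F, ∀ z, Q (φ z : V) + r z * r z * Q b₀ = 0 := by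
    rcases hcase with h0 | h0
    · exact ⟨0, fun z => by rw [h0]; simp⟩
    · obtain ⟨r, hr⟩ := exists_root (Y := Y) h2 (fun z => Q (φ z : V) * (Q b₀)⁻¹) (fun z z' => by
          show Q ((φ (z + z') : Y) : V) * _ = _
          rw [map_add, Submodule.coe_add, Q_add, hYY, add_zero, add_mul]) (fun c z => by
          show Q ((φ (c • z) : Y) : V) * _ = _
          rw [map_smul, Submodule.coe_smul, QuadraticMap.map_smul, smul_eq_mul]
          ring)
      refine ⟨r, fun z => ?_⟩
      rw [hr, mul_assoc, inv_mul_cancel₀ h0, mul_one]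
      exact add_self h2 _
  let j : Y →ₗ[F] V := j₀ + Y.subtype ∘ₗ φ + r.smulRight b₀
  have hj : ∀ z, j z = j₀ z + (φ z : V) + r z • b₀ := fun z => rfl
  have hsec : ∀ z : Y, v (j z) + j z = z := by
    intro z
    rw [hj, map_add, map_add, map_smul, hvY, hb₀]
    have e : v (j₀ z) + (φ z : V) + r z • b₀ + (j₀ z + (φ z : V) + r z • b₀) =
        (v (j₀ z) + j₀ z) + ((φ z : V) + (φ z : V)) + (r z • b₀ + r z • b₀) := by abel
    rw [e, hj₀, vadd_self h2, vadd_self h2, add_zero, add_zero]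
  have hsq : ∀ z : Y, Q (j z) = d * Q (z : V) := by
    intro z
    have h1 : polar Q (j₀ z + (φ z : V)) (r z • b₀) = 0 := by
      rw [polar_smul_right, polar_add_left, hbj, hYb (φ z) hb₀, add_zero, smul_zero]
    rw [hj, Q_add, Q_add, h1, hφ', hgz, QuadraticMap.map_smul, smul_eq_mul]
    have h3 := hr z
    linear_combination h3 + (Q (j₀ z)) * h2
  have hinj := frm_inj h2 hnd hO vv mem hsec
  -- the functional `z ↦ B(w, j z)`
  let ψ : V →ₗ[F] Module.Dual F Y := (polarBilin Q).compl₁₂ LinearMap.id j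
  refine ⟨j, (frmE hinj).symm.toLinearMap ∘ₗ ψ, ⟨h2, hnd, hO, vv, mem, hsec, hsq, hld, fun w z => ?_⟩,
    fun z => ⟨φ z, r z, hj z⟩⟩
  exact frmE_symm hinj (ψ w) z

/-- a section of `v + 1` on its range -/
theorem exists_section (v : V ≃ₗ[F] V) :
    ∃ j : ↥(LinearMap.range (v.toLinearMap + LinearMap.id)) →ₗ[F] V, ∀ z, v (j z) + j z = z := by
  obtain ⟨g, hg⟩ := LinearMap.exists_rightInverse_of_surjective
    (v.toLinearMap + LinearMap.id).rangeRestrict (LinearMap.range_rangeRestrict _)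
  refine ⟨g, fun z => ?_⟩
  exact congrArg Subtype.val (LinearMap.congr_fun hg z)

/-! ### type `a` -/

/-- **type `a`** : `B(y, v y) = 0` for all `y` -/
theorem exists_XD_a [FiniteDimensional F V] [Finite F] (h2 : (2 : F) = 0) (hnd : Nondeg Q) {l d : F} (hld : l * d = 1)
    {v : V ≃ₗ[F] V} (hO : v ∈ O Q) (vv : ∀ w, v (v w) = w) (ha : ∀ y, polar Q y (v y) = 0) :
    ∃ (j : ↥(LinearMap.range (v.toLinearMap + LinearMap.id)) →ₗ[F] V)
      (ζ : V →ₗ[F] ↥(LinearMap.range (v.toLinearMap + LinearMap.id))),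
      XD Q l d v (LinearMap.range (v.toLinearMap + LinearMap.id)) j ζ ∧
      XD.Star Q (LinearMap.range (v.toLinearMap + LinearMap.id)) j := by
  obtain ⟨j₀, hj₀⟩ := exists_section v
  have mem : ∀ w, v w + w ∈ LinearMap.range (v.toLinearMap + LinearMap.id) := fun w => ⟨w, rfl⟩
  have hQ : ∀ z : ↥(LinearMap.range (v.toLinearMap + LinearMap.id)), Q (z : V) = 0 := by
    rintro ⟨_, w, rfl⟩
    show Q (v w + w) = 0
    rw [Q_add, mem_O.1 hO, polar_comm, ha, add_zero]
    exact add_self h2 _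
  obtain ⟨j, ζ, h, -⟩ := exists_XD h2 hnd hld hO vv mem j₀ hj₀ (b₀ := 0) (map_zero _)
    (fun z => polar_zero_right _ _) (Or.inl hQ)
  refine ⟨j, ζ, h, ?_⟩
  intro u hu _
  apply h.inj0
  intro z
  rw [h.polar_sym]
  exact hu z (hQ z)

end Cfsg.Agent.H739.SK.Om
end

-- part: H739/SK/OmCase
section
/-!
# S3010, orthogonal groups in characteristic two: involutions of type `c`, reflections (helper739)
-/

set_option autoImplicit false
set_option linter.unusedSectionVars false
set_option linter.unusedVariables false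

namespace Cfsg.Agent.H739.SK.Om

open QuadraticMap Cfsg.Agent.LieClassical.OrthCore Cfsg.Agent.LieClassical.OrthTrans
open Module (finrank)

variable {F V : Type*} [Field F] [AddCommGroup V] [Module F V] {Q : QuadraticForm F V}

/-! ### the Dickson invariant -/

section Dickson

variable [CharP F 2]

theorem altB (hnd : Nondeg Q) : H375.Odd.Alt (polarBilin Q : V →ₗ[F] V →ₗ[F] F) :=
  ⟨fun v => polar_self0 CharTwo.two_eq_zero v, fun u hu => hnd u hu⟩

theorem qfB (Q : QuadraticForm F V) : H375.Odd.QF (⇑Q) (polarBilin Q : V →ₗ[F] V →ₗ[F] F) :=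
  ⟨fun u v => Q_add u v, fun c v => by rw [QuadraticMap.map_smul, smul_eq_mul, pow_two]⟩

variable [FiniteDimensional F V]

/-- the isometries with `g - 1` of even rank -/
def Dk (hnd : Nondeg Q) : Subgroup (V ≃ₗ[F] V) := H199.Out.OM (altB hnd) (qfB Q)

theorem E_le_Dk (hG : Good Q) : E Q ≤ Dk hG.nondeg := by
  rw [← hG.commutator_eq_E, Subgroup.commutator_le]
  intro f hf g hg
  rw [commutatorElement_def, mul_assoc, mul_assoc]
  by_cases h : f ∈ Dk hG.nondeg
  · apply (Dk hG.nondeg).mul_mem h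
    rw [← mul_assoc]
    exact H199.Out.conj_mem_OM _ _ ((Dk hG.nondeg).inv_mem h) hg
  · refine H199.Out.mul_mem_OM _ _ hf ?_ h ?_
    · exact (O Q).mul_mem hg ((O Q).mul_mem ((O Q).inv_mem hf) ((O Q).inv_mem hg))
    · intro h1
      apply h
      have h3 : g * (f⁻¹ * g⁻¹) = g * f⁻¹ * g⁻¹ := by group
      rw [h3] at h1
      have h4 := H199.Out.conj_mem_OM (altB hG.nondeg) (qfB Q) h1 ((O Q).inv_mem hg)
      have h5 : g⁻¹ * (g * f⁻¹ * g⁻¹) * g⁻¹⁻¹ = f⁻¹ := by group
      rw [h5] at h4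
      exact ((Dk hG.nondeg).inv_mem_iff).1 h4

theorem refl_notMem_Dk (hnd : Nondeg Q) {a : V} (ha : Q a ≠ 0) : refl Q a ha ∉ Dk hnd := by
  have h : refl Q a ha = H199.Out.reflE (altB hnd) a (Q a)⁻¹ := by
    ext w
    show refl Q a ha w = _
    rw [refl_apply, H199.Out.reflE_apply, vsub (CharTwo.two_eq_zero (R := F))]
    rfl
  rw [h]
  exact H199.Out.reflE_notMem (altB hnd) (qfB Q) ha

theorem bW_eq (v : V ≃ₗ[F] V) : H375.Odd.bW v = LinearMap.range (v.toLinearMap + LinearMap.id) := by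
  unfold H375.Odd.bW
  congr 1
  ext w
  show v w - w = v w + w
  exact vsub (CharTwo.two_eq_zero (R := F)) _ _

end Dickson

/-- `E Q` has index at most two in `O Q` -/
theorem mem_E_or [FiniteDimensional F V] [Finite F] (h2 : (2 : F) = 0) (hG : Good Q) {a : V} (ha : Q a ≠ 0) :
    ∀ g ∈ O Q, g ∈ E Q ∨ refl Q a ha * g ∈ E Q := by
  intro g hg
  rw [O_eq_closure hG.nondeg] at hg
  have hnorm : ∀ x ∈ E Q, refl Q a ha * x * refl Q a ha ∈ E Q := by
    intro x hx
    have := conj_mem_E (refl_mem_O ha) hx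
    rwa [refl_inv] at this
  have hstep : ∀ (b : V) (hb : Q b ≠ 0), refl Q a ha * refl Q b hb ∈ E Q := by
    intro b hb
    obtain ⟨c, hc0, hc⟩ := exists_scale h2 hb ha
    have hcb : Q (c • b) ≠ 0 := by rw [hc]; exact ha
    rw [← smul_refl hb hcb]
    exact hG.refl_mul_refl_mem hcb ha hc
  induction hg using Subgroup.closure_induction with
  | mem x hx =>
    rcases hx with ⟨b, hb, rfl⟩ | ⟨u, w, hu, hw, rfl⟩
    · exact Or.inr (hstep b hb)
    · exact Or.inl (siegel_mem_E _ _)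
  | one => exact Or.inl (E Q).one_mem
  | mul x y hx hy ihx ihy =>
    rcases ihx with h1 | h1
    · rcases ihy with h3 | h3
      · exact Or.inl ((E Q).mul_mem h1 h3)
      · right
        have e : refl Q a ha * (x * y) = (refl Q a ha * x * refl Q a ha) * (refl Q a ha * y) := by
          have := refl_mul_self ha
          calc refl Q a ha * (x * y) = refl Q a ha * x * 1 * y := by group
            _ = refl Q a ha * x * (refl Q a ha * refl Q a ha) * y := by rw [this]
            _ = _ := by group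
        rw [e]
        exact (E Q).mul_mem (hnorm x h1) h3
    · rcases ihy with h3 | h3
      · right
        rw [← mul_assoc]
        exact (E Q).mul_mem h1 h3
      · left
        have e : x * y = (refl Q a ha * (refl Q a ha * x) * refl Q a ha) * (refl Q a ha * y) := by
          have := refl_mul_self ha
          calc x * y = 1 * x * 1 * y := by group
            _ = (refl Q a ha * refl Q a ha) * x * (refl Q a ha * refl Q a ha) * y := by rw [this]
            _ = _ := by group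
        rw [e]
        exact (E Q).mul_mem (hnorm _ h1) h3
  | inv x hx ih =>
    rcases ih with h1 | h1
    · exact Or.inl ((E Q).inv_mem h1)
    · right
      have e : refl Q a ha * x⁻¹ = refl Q a ha * (refl Q a ha * x)⁻¹ * refl Q a ha := by
        rw [mul_inv_rev, refl_inv, mul_assoc, mul_assoc, refl_mul_self, mul_one]
      rw [e]
      exact hnorm _ ((E Q).inv_mem h1)

namespace XD

variable {l d : F} {v : V ≃ₗ[F] V} {Y : Submodule F V} {j : Y →ₗ[F] V} {ζ : V →ₗ[F] Y}

/-- odd dimension of `Y` gives (★) -/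
theorem star_of_odd [FiniteDimensional F V] [Finite F] (h : XD Q l d v Y j ζ) (hodd : Odd (finrank F Y)) :
    Star Q Y j := by
  intro u hu hQu
  by_contra hu0
  have hsing : ∀ z : Y, polar Q (j z) u = 0 → Q (z : V) = 0 := by
    intro z₁ hz₁
    by_contra hne
    apply hu0
    apply h.inj0
    intro y
    obtain ⟨c, hc⟩ := sq_surjective h.two (Q (y : V) * (Q (z₁ : V))⁻¹)
    have h1 : Q ((y + c • z₁ : Y) : V) = 0 := by
      rw [Submodule.coe_add, Submodule.coe_smul, Q_add, QuadraticMap.map_smul, polar_smul_right, h.polar_Y,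
        smul_zero, add_zero, hc, smul_eq_mul, mul_assoc, inv_mul_cancel₀ hne, mul_one]
      exact add_self h.two _
    have h3 := hu _ h1
    rw [map_add, map_smul, polar_add_left, polar_smul_left, hz₁, smul_zero, add_zero] at h3
    rw [h.polar_sym]
    exact h3
  -- a partner of `u`
  obtain ⟨m, hm⟩ : ∃ m : Y, polar Q (j m) u = 1 := by
    by_contra hcon
    push Not at hcon
    apply hu0
    apply h.inj0
    intro y
    rw [h.polar_sym]
    by_contra hne
    apply hcon ((polar Q (j y) u)⁻¹ • y)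
    rw [map_smul, polar_smul_left, smul_eq_mul, inv_mul_cancel₀ hne]
  -- the map `z ↦ (B(jz,u), B(jz,m))`
  let f : Y →ₗ[F] F × F :=
    { toFun := fun z => (polar Q (j z) (u : V), polar Q (j z) (m : V))
      map_add' := fun z z' => by
        rw [map_add, polar_add_left, polar_add_left]; rfl
      map_smul' := fun c z => by
        rw [map_smul, polar_smul_left, polar_smul_left]; rfl }
  have hf : ∀ z, f z = (polar Q (j z) (u : V), polar Q (j z) (m : V)) := fun z => rfl
  have hum : polar Q (j u) m = 1 := by rw [h.polar_sym]; exact hm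
  have huu : polar Q (j u) u = 0 := by rw [h.polar_jz]; exact hQu
  have hsurj : Function.Surjective f := by
    rintro ⟨s, t⟩
    refine ⟨s • m + (t + s * Q (m : V)) • u, ?_⟩
    rw [hf, map_add, map_smul, map_smul, polar_add_left, polar_add_left, polar_smul_left, polar_smul_left,
      polar_smul_left, polar_smul_left, hm, huu, hum, h.polar_jz]
    simp only [smul_eq_mul]
    apply Prod.ext
    · show s * 1 + (t + s * Q (m : V)) * 0 = s
      ring
    · show s * Q (m : V) + (t + s * Q (m : V)) * 1 = t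
      linear_combination (s * Q (m : V)) * h.two
  have hrank := LinearMap.finrank_range_add_finrank_ker f
  rw [LinearMap.range_eq_top.2 hsurj, finrank_top, Module.finrank_prod, Module.finrank_self] at hrank
  -- the form on `ker f` is alternating and nondegenerate
  let β : LinearMap.BilinForm F (LinearMap.ker f) :=
    (frm Q j).compl₁₂ (LinearMap.ker f).subtype (LinearMap.ker f).subtype
  have hβ : ∀ z z' : LinearMap.ker f, β z z' = polar Q (j z) ((z' : Y) : V) := fun z z' => rfl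
  have hmem : ∀ z : LinearMap.ker f, polar Q (j z) u = 0 ∧ polar Q (j z) m = 0 := by
    intro z
    have h1 := z.2
    rw [LinearMap.mem_ker, hf] at h1
    exact ⟨congrArg Prod.fst h1, congrArg Prod.snd h1⟩
  have halt : β.IsAlt := by
    intro z
    rw [hβ, h.polar_jz]
    exact hsing _ (hmem z).1
  obtain ⟨n, hn⟩ := ClassicalGeometry.TwoFamilies.exists_finrank_eq_ker_add β halt
  have hker : LinearMap.ker β = ⊥ := by
    rw [LinearMap.ker_eq_bot']
    intro z hz
    apply Subtype.ext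
    apply h.inj0
    intro y
    -- `y = y' + s m + t u`
    obtain ⟨s, t, hst⟩ : ∃ s t : F, y + s • m + t • u ∈ LinearMap.ker f := by
      refine ⟨polar Q (j y) u, polar Q (j y) m + polar Q (j y) u * Q (m : V), ?_⟩
      rw [LinearMap.mem_ker, hf, map_add, map_add, map_smul, map_smul]
      simp only [polar_add_left, polar_smul_left, hm, huu, hum, h.polar_jz, smul_eq_mul]
      apply Prod.ext
      · show polar Q (j y) (u : V) + polar Q (j y) (u : V) * 1 + _ * 0 = 0
        linear_combination (polar Q (j y) (u : V)) * h.two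
      · show polar Q (j y) (m : V) + polar Q (j y) (u : V) * Q (m : V) + (polar Q (j y) (m : V) +
          polar Q (j y) (u : V) * Q (m : V)) * 1 = 0
        linear_combination (polar Q (j y) (m : V) + polar Q (j y) (u : V) * Q (m : V)) * h.two
    have h1 : β z ⟨_, hst⟩ = 0 := by rw [hz]; rfl
    rw [hβ] at h1
    have h3 : polar Q (j (z : Y)) ((y + s • m + t • u : Y) : V) = polar Q (j (z : Y)) (y : V) := by
      rw [Submodule.coe_add, Submodule.coe_add, Submodule.coe_smul, Submodule.coe_smul, polar_add_right,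
        polar_add_right, polar_smul_right, polar_smul_right, (hmem z).1, (hmem z).2]
      simp
    rw [← h3]
    exact h1
  rw [hker, finrank_bot, zero_add] at hn
  rw [hn] at hrank
  rw [← hrank] at hodd
  exact absurd hodd (by rw [Nat.not_odd_iff_even]; exact ⟨1 + n, by omega⟩)

end XD

/-! ### type `c` -/

/-- **type `c`** : `v ∈ E Q`, `v² = 1`, `B(y, v y) ≠ 0` for some `y`. -/
theorem exists_XD_c [FiniteDimensional F V] [Finite F] (h2 : (2 : F) = 0) (hG : Good Q) {l d : F} (hld : l * d = 1)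
    {v : V ≃ₗ[F] V} (hE : v ∈ E Q) (vv : ∀ w, v (v w) = w) {y₀ : V} (hy₀ : polar Q y₀ (v y₀) ≠ 0) :
    ∃ (a : V) (ha : Q a ≠ 0) (v₁ : V ≃ₗ[F] V) (Y : Submodule F V) (j : Y →ₗ[F] V) (ζ : V →ₗ[F] Y)
      (h : XD Q l d v₁ Y j ζ), XD.Star Q Y j ∧ Y ≠ ⊥ ∧ h.P a = 0 ∧ v = v₁ * refl Q a ha := by
  have : CharP F 2 := CharTwo.of_one_ne_zero_of_two_eq_zero one_ne_zero h2
  have hO : v ∈ O Q := E_le_O hE
  set a := v y₀ + y₀ with ha'
  have hQa : Q a = polar Q y₀ (v y₀) := by
    rw [ha', Q_add, mem_O.1 hO, polar_comm Q (v y₀) y₀]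
    linear_combination (Q y₀) * h2
  have ha : Q a ≠ 0 := by rw [hQa]; exact hy₀
  have hva : v a = a := by rw [ha', map_add, vv, add_comm]
  have hay₀ : polar Q a y₀ = Q a := by
    rw [ha', polar_add_left, polar_self0 h2, add_zero, ← ha', hQa, polar_comm]
  have hraa : refl Q a ha a = a := by
    rw [refl_apply, polar_self0 h2, mul_zero, zero_smul, sub_zero]
  have hcomm : v * refl Q a ha = refl Q a ha * v := by
    ext w
    show v (refl Q a ha w) = refl Q a ha (v w)
    have h1 : polar Q a (v w) = polar Q a w := by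
      have := polar_map hO a w
      rwa [hva] at this
    rw [refl_apply, refl_apply, map_sub, map_smul, hva, h1]
  set v₁ := v * refl Q a ha with hv₁
  have hv₁a : ∀ w, v₁ w = v w + ((Q a)⁻¹ * polar Q a w) • a := by
    intro w
    show v (refl Q a ha w) = _
    rw [refl_apply, map_sub, map_smul, hva, vsub h2]
  have hO₁ : v₁ ∈ O Q := (O Q).mul_mem hO (refl_mem_O ha)
  have vv₁ : ∀ w, v₁ (v₁ w) = w := by
    intro w
    have h1 : v₁ * v₁ = 1 := by
      have h3 : v * v = 1 := by ext w; exact vv w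
      calc v₁ * v₁ = v * (refl Q a ha * v) * refl Q a ha := by rw [hv₁]; group
        _ = v * (v * refl Q a ha) * refl Q a ha := by rw [← hcomm, hv₁]
        _ = (v * v) * (refl Q a ha * refl Q a ha) := by group
        _ = 1 := by rw [h3, refl_mul_self, mul_one]
    exact LinearEquiv.congr_fun h1 w
  set Y := LinearMap.range (v₁.toLinearMap + LinearMap.id) with hY
  have mem : ∀ w, v₁ w + w ∈ Y := fun w => ⟨w, rfl⟩
  obtain ⟨s, hs⟩ := exists_section v₁
  have hNy₀ : v₁ y₀ + y₀ = 0 := by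
    rw [hv₁a, hay₀, inv_mul_cancel₀ ha, one_smul, add_right_comm, ← ha']
    exact vadd_self h2 a
  let φ : Y →ₗ[F] F := (Q a)⁻¹ • ((polarBilin Q a) ∘ₗ s)
  have hφ : ∀ z, φ z = (Q a)⁻¹ * polar Q a (s z) := fun z => rfl
  let j₀ : Y →ₗ[F] V := s + φ.smulRight y₀
  have hj₀ : ∀ z, j₀ z = s z + φ z • y₀ := fun z => rfl
  have hsec : ∀ z : Y, v₁ (j₀ z) + j₀ z = z := by
    intro z
    rw [hj₀, map_add, map_smul]
    have e : v₁ (s z) + φ z • v₁ y₀ + (s z + φ z • y₀) = (v₁ (s z) + s z) + φ z • (v₁ y₀ + y₀) := by module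
    rw [e, hs, hNy₀, smul_zero, add_zero]
  have hbj : ∀ z : Y, polar Q (j₀ z) a = 0 := by
    intro z
    rw [hj₀, polar_add_left, polar_smul_left, hφ, polar_comm Q y₀ a, hay₀, polar_comm Q (s z) a, smul_eq_mul]
    have e : polar Q a (s z) + (Q a)⁻¹ * polar Q a (s z) * Q a = polar Q a (s z) + polar Q a (s z) * ((Q a)⁻¹ * Q a) := by
      ring
    rw [e, inv_mul_cancel₀ ha, mul_one]
    exact add_self h2 _
  have hv₁a' : v₁ a = a := by rw [hv₁a, hva, polar_self0 h2, mul_zero, zero_smul, add_zero]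
  obtain ⟨j, ζ, h, hj⟩ := exists_XD h2 hG.nondeg hld hO₁ vv₁ mem j₀ hsec hv₁a' hbj (Or.inr ha)
  have hja : ∀ z, polar Q a (j z) = 0 := by
    intro z
    obtain ⟨y, t, e⟩ := hj z
    have h1 : polar Q (y : V) a = 0 := by
      have h3 : (y : V) = (h.N (j y) : V) := by rw [h.N_j]
      rw [h3, h.polar_N, h.N_apply, hv₁a', vadd_self h2, polar_zero_right]
    rw [e, polar_add_right, polar_add_right, polar_smul_right, polar_self0 h2, polar_comm Q a (j₀ z), hbj,
      polar_comm Q a (y : V), h1]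
    simp
  have hPa : h.P a = 0 := by
    rw [h.P_eq_zero]
    refine ⟨Subtype.ext ?_, ?_⟩
    · rw [h.N_apply, hv₁a', vadd_self h2]; rfl
    · apply h.inj0
      intro z
      rw [h.zeta]
      exact hja z
  have hodd : Odd (finrank F Y) := by
    rw [← Nat.not_even_iff_odd, hY, ← bW_eq]
    intro hev
    have h1 : v₁ ∈ Dk hG.nondeg := ⟨hO₁, hev⟩
    apply refl_notMem_Dk hG.nondeg ha
    have h3 : refl Q a ha = v⁻¹ * v₁ := by rw [hv₁]; group
    rw [h3]
    exact (Dk hG.nondeg).mul_mem ((Dk hG.nondeg).inv_mem (E_le_Dk hG hE)) h1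
  refine ⟨a, ha, v₁, Y, j, ζ, h, h.star_of_odd hodd, ?_, hPa, ?_⟩
  · intro h0
    rw [h0, finrank_bot] at hodd
    exact absurd hodd (by decide)
  · rw [hv₁, mul_assoc, refl_mul_self, mul_one]

/-! ### reflections -/

/-- **reflections** -/
theorem exists_XD_r [FiniteDimensional F V] [Finite F] (h2 : (2 : F) = 0) (hG : Good Q) {l d : F} (hld : l * d = 1)
    {a : V} (ha : Q a ≠ 0) :
    ∃ (j : ↥(Submodule.span F {a}) →ₗ[F] V) (ζ : V →ₗ[F] ↥(Submodule.span F {a}))
      (h : XD Q l d (refl Q a ha) (Submodule.span F {a}) j ζ), XD.Star Q (Submodule.span F {a}) j ∧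
      ∃ e : V, ∀ w, ∃ s t : F, h.P w = s • a + t • e := by
  have ha0 : a ≠ 0 := by
    rintro rfl
    exact ha (QuadraticMap.map_zero Q)
  set Y := Submodule.span F {a} with hY
  have haY : a ∈ Y := Submodule.mem_span_singleton_self a
  have mem : ∀ w, refl Q a ha w + w ∈ Y := by
    intro w
    have : refl Q a ha w + w = ((Q a)⁻¹ * polar Q a w) • a := by
      rw [refl_apply, vsub h2, add_right_comm, vadd_self h2, zero_add]
    rw [this]
    exact Submodule.smul_mem _ _ haY
  obtain ⟨e₀, he₀⟩ := hG.nondeg.exists_polar_eq ha0 (Q a)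
  -- the section `c a ↦ c e₀`
  let c : Y ≃ₗ[F] F := (LinearEquiv.toSpanNonzeroSingleton F V a ha0).symm
  have hc : ∀ z : Y, (z : V) = c z • a := by
    intro z
    have h1 : LinearEquiv.toSpanNonzeroSingleton F V a ha0 (c z) = z := LinearEquiv.apply_symm_apply _ _
    have h3 := congrArg Subtype.val h1
    rw [← h3]
    rfl
  let j₀ : Y →ₗ[F] V := (c : Y →ₗ[F] F).smulRight e₀
  have hj₀ : ∀ z, j₀ z = c z • e₀ := fun z => rfl
  have hsec : ∀ z : Y, refl Q a ha (j₀ z) + j₀ z = z := by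
    intro z
    rw [hj₀, map_smul, refl_apply, he₀, inv_mul_cancel₀ ha, one_smul, vsub h2, ← smul_add, add_right_comm,
      vadd_self h2, zero_add, ← hc]
  -- a nonsingular vector orthogonal to `a`, `e₀`
  obtain ⟨b, hb, hab, heb⟩ : ∃ b, Q b ≠ 0 ∧ polar Q a b = 0 ∧ polar Q e₀ b = 0 := by
    have hd := hG.dim
    obtain ⟨z, hz0, hz⟩ := exists_perp_ne (Q := Q) ![a, e₀] (by omega)
    have hz1 : polar Q a z = 0 := hz 0
    have hz2 : polar Q e₀ z = 0 := hz 1
    obtain ⟨y, hy⟩ := hG.nondeg.exists_polar_eq hz0 1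
    set y' := y + ((Q a)⁻¹ * polar Q e₀ y) • a + ((Q a)⁻¹ * polar Q a y) • e₀ with hy'
    have hea : polar Q e₀ a = Q a := by rw [polar_comm]; exact he₀
    have h1 : polar Q a y' = 0 := by
      rw [hy', polar_add_right, polar_add_right, polar_smul_right, polar_smul_right, polar_self0 h2, he₀, smul_zero,
        add_zero, smul_eq_mul, mul_comm (Q a)⁻¹, mul_assoc, inv_mul_cancel₀ ha, mul_one]
      exact add_self h2 _
    have h3 : polar Q e₀ y' = 0 := by
      rw [hy', polar_add_right, polar_add_right, polar_smul_right, polar_smul_right, polar_self0 h2, hea, smul_zero,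
        add_zero, smul_eq_mul, mul_comm (Q a)⁻¹, mul_assoc, inv_mul_cancel₀ ha, mul_one]
      exact add_self h2 _
    have h4 : polar Q z y' = 1 := by
      rw [hy', polar_add_right, polar_add_right, polar_smul_right, polar_smul_right, polar_comm Q z a, hz1,
        polar_comm Q z e₀, hz2, hy]
      simp
    rcases exists_nonsing h4 with h5 | h5 | h5
    · exact ⟨z, h5, hz1, hz2⟩
    · exact ⟨y', h5, h1, h3⟩
    · exact ⟨z + y', h5, by rw [polar_add_right, hz1, h1, add_zero], by rw [polar_add_right, hz2, h3, add_zero]⟩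
  have hvb : refl Q a ha b = b := by rw [refl_apply, hab, mul_zero, zero_smul, sub_zero]
  obtain ⟨j, ζ, h, hj⟩ := exists_XD h2 hG.nondeg hld (refl_mem_O ha)
    (fun w => LinearEquiv.congr_fun (refl_mul_self ha) w) mem j₀ hsec hvb
    (fun z => by rw [hj₀, polar_smul_left, heb, smul_zero]) (Or.inr hb)
  refine ⟨j, ζ, h, ?_, ?_⟩
  · intro u hu hQu
    apply Subtype.ext
    rw [hc u, QuadraticMap.map_smul, smul_eq_mul] at hQu
    rcases mul_eq_zero.1 hQu with h1 | h1
    · rw [hc u, mul_self_eq_zero.1 h1, zero_smul]; rfl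
    · exact absurd h1 ha
  · refine ⟨j ⟨a, haY⟩, fun w => ⟨c (ζ w), c (h.N w), ?_⟩⟩
    rw [h.P_apply, ← hc (ζ w), ← map_smul]
    congr 2
    exact Subtype.ext (hc (h.N w))

end Cfsg.Agent.H739.SK.Om
end

private theorem dce_32aa19c32a82 : _root_.True := by
  try have : _root_.True := by simp only [_root_.Cfsg.Agent.H739.SK.Om.XD.x.eq_1]
  try have : _root_.True := by simp only [_root_.Cfsg.Agent.H739.SK.Om.XD.N.congr_simp]
  try have : _root_.True := by simp only [_root_.Cfsg.Agent.H739.SK.Om.XD.tau.eq_1]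
  try have : _root_.True := by simp only [_root_.Cfsg.Agent.H739.SK.Om.XD.Fx.congr_simp]
  try have : _root_.True := by simp only [_root_.Cfsg.Agent.H739.SK.Om.XD.x.congr_simp]
  try have : _root_.True := by simp only [_root_.Cfsg.Agent.H739.SK.Om.XD.P.congr_simp]
  exact _root_.True.intro
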